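import Groth.Prelude.Def_FilD
import Mathlib.CategoryTheory.Abelian.Refinements
import Mathlib.CategoryTheory.Subobject.Lattice
import Mathlib.Algebra.Homology.ShortComplex.Exact

/-! Finite filtered objects: elementwise criteria. -/

universe v u

open CategoryTheory CategoryTheory.Limits Opposite

namespace Groth.Agent.FilLib

variable {A : Type u} [Category.{v} A] [Abelian A]

section Functor

variable {D : Type*} [Category D]

/-- Naturality of a family between functors on `ℤᵒᵖ` can be checked on successors. -/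
lemma natural_of_step (F G : ℤᵒᵖ ⥤ D) (g : ∀ p : ℤ, F.obj (op p) ⟶ G.obj (op p))
    (h : ∀ p, F.map (FilD.stepHom p) ≫ g p = g (p + 1) ≫ G.map (FilD.stepHom p))
    ⦃p q : ℤ⦄ (hpq : p ≤ q) :
    F.map (homOfLE hpq).op ≫ g p = g q ≫ G.map (homOfLE hpq).op := by
  obtain ⟨n, rfl⟩ : ∃ n : ℕ, p + n = q := ⟨(q - p).toNat, by lia⟩
  induction n with
  | zero =>
    revert hpq
    rw [show p + ((0 : ℕ) : ℤ) = p by simp]
    intro hpq
    rw [show (homOfLE hpq).op = 𝟙 _ from rfl, CategoryTheory.Functor.map_id,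
      CategoryTheory.Functor.map_id, Category.id_comp, Category.comp_id]
  | succ n ih =>
    revert hpq
    rw [show p + ((n + 1 : ℕ) : ℤ) = p + n + 1 by push_cast; lia]
    intro hpq
    rw [show (homOfLE hpq).op = FilD.stepHom (p + n) ≫ (homOfLE (show p ≤ p + n by lia)).op from rfl,
      F.map_comp, G.map_comp, Category.assoc, ih, reassoc_of% (h (p + n))]

/-- A morphism of functors on `ℤᵒᵖ` from its successor squares. -/
def homOfSteps (F G : ℤᵒᵖ ⥤ D) (g : ∀ p : ℤ, F.obj (op p) ⟶ G.obj (op p))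
    (h : ∀ p, F.map (FilD.stepHom p) ≫ g p = g (p + 1) ≫ G.map (FilD.stepHom p)) : F ⟶ G where
  app x := g x.unop
  naturality {x y} f := by
    obtain ⟨x⟩ := x
    obtain ⟨y⟩ := y
    exact natural_of_step F G g h (leOfHom f.unop)

end Functor

lemma imageSubobject_factors_iff {X Y B : A} (f : X ⟶ Y) (y : B ⟶ Y) :
    (imageSubobject f).Factors y ↔
      ∃ (B' : A) (π : B' ⟶ B) (_ : Epi π) (x : B' ⟶ X), π ≫ y = x ≫ f := by
  constructor
  · intro h
    obtain ⟨B', π, hπ, x, hx⟩ := surjective_up_to_refinements_of_epi (factorThruImageSubobject f)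
      ((imageSubobject f).factorThru y h)
    refine ⟨B', π, hπ, x, ?_⟩
    rw [← (imageSubobject f).factorThru_arrow y h, reassoc_of% hx, imageSubobject_arrow_comp]
  · rintro ⟨B', π, hπ, x, e⟩
    have h : π ≫ y ≫ cokernel.π (imageSubobject f).arrow = 0 := by
      have e2 : f ≫ cokernel.π (imageSubobject f).arrow = 0 := by
        conv_lhs => arg 1; rw [← imageSubobject_arrow_comp f]
        rw [Category.assoc, cokernel.condition, comp_zero]
      rw [reassoc_of% e, e2, comp_zero]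
    have h' : y ≫ cokernel.π (imageSubobject f).arrow = 0 := by
      rwa [← cancel_epi π, comp_zero]
    obtain ⟨w, hw⟩ := KernelFork.IsLimit.lift'
      (Abelian.monoIsKernelOfCokernel _ (cokernelIsCokernel (imageSubobject f).arrow)) y h'
    rw [← hw]
    exact Subobject.factors_of_factors_right w (Subobject.factors_self _)

section Levels

variable (F : ℤᵒᵖ ⥤ A)

/-- Projection to the graded piece. -/
noncomputable def proj (p : ℤ) : F.obj (op p) ⟶ (FilD.gr A p).obj F :=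
  cokernel.π (F.map (FilD.stepHom p))

instance epi_proj (p : ℤ) : Epi (proj F p) :=
  inferInstanceAs (Epi (cokernel.π (F.map (FilD.stepHom p))))

lemma step_proj (p : ℤ) : F.map (FilD.stepHom p) ≫ proj F p = 0 := cokernel.condition _

lemma proj_eq_zero (p : ℤ) {B : A} (x : B ⟶ F.obj (op p)) (hx : x ≫ proj F p = 0) :
    ∃ (B' : A) (π : B' ⟶ B) (_ : Epi π) (x' : B' ⟶ F.obj (op (p + 1))),
      π ≫ x = x' ≫ F.map (FilD.stepHom p) :=
  (ShortComplex.exact_of_g_is_cokernel (ShortComplex.mk _ (proj F p) (step_proj F p))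
    (cokernelIsCokernel _)).exact_up_to_refinements x hx

variable {F} {G : ℤᵒᵖ ⥤ A}

@[reassoc]
lemma proj_naturality (φ : F ⟶ G) (p : ℤ) :
    φ.app (op p) ≫ proj G p = proj F p ≫ (FilD.gr A p).map φ :=
  (cokernel.π_desc _ _ _).symm

end Levels

section FilF

variable {F G : FilD.FilF A}

omit [Abelian A] in
lemma refines' [Abelian A] {X Y Z : A} (f : X ⟶ Y) (g : Y ⟶ Z) (w : f ≫ g = 0)
    (h : (ShortComplex.mk f g w).Exact) {B : A} (x : B ⟶ Y) (hx : x ≫ g = 0) :
    ∃ (B' : A) (π : B' ⟶ B) (_ : Epi π) (x₁ : B' ⟶ X), π ≫ x = x₁ ≫ f :=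
  h.exact_up_to_refinements x hx

omit [Abelian A] in
lemma mono_map [Abelian A] (X : FilD.FilF A) {x y : ℤᵒᵖ} (f : x ⟶ y) : Mono (X.obj.map f) := X.property.1 f

lemma isStrict_iff (φ : F ⟶ G) :
    FilD.IsStrict φ ↔ ∀ (p : ℤ) {B : A} (y : B ⟶ G.obj.obj (op (p + 1))) (x : B ⟶ F.obj.obj (op p)),
      x ≫ φ.hom.app (op p) = y ≫ G.obj.map (FilD.stepHom p) →
      ∃ (B' : A) (π : B' ⟶ B) (_ : Epi π) (x' : B' ⟶ F.obj.obj (op (p + 1))),
        π ≫ y = x' ≫ φ.hom.app (op (p + 1)) := by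
  constructor
  · intro h p B y x e
    have hm : Mono (G.obj.map (FilD.stepHom p)) := mono_map G _
    have hm' : ∀ (a b : ℤᵒᵖ) (f : a ⟶ b), Mono (G.obj.map f) := fun _ _ f => mono_map G f
    have h1 : (imageSubobject (φ.hom.app (op (p + 1)) ≫ G.obj.map (FilD.stepHom p))).Factors
        (y ≫ G.obj.map (FilD.stepHom p)) := by
      refine Subobject.factors_of_le _ (h p (p + 1) (by lia)).ge ((Subobject.inf_factors _).2 ⟨?_, ?_⟩)
      · rw [← e]; exact imageSubobject_factors_comp_self _ _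
      · exact (Subobject.mk_factors_iff _ _).2 ⟨y, rfl⟩
    obtain ⟨B', π, hπ, x', hx'⟩ := (imageSubobject_factors_iff _ _).1 h1
    refine ⟨B', π, hπ, x', ?_⟩
    rwa [← cancel_mono (G.obj.map (FilD.stepHom p)), Category.assoc, Category.assoc]
  · intro h
    have key : ∀ (n : ℕ) (p q : ℤ) (hn : p + n = q) {B : A} (y : B ⟶ G.obj.obj (op q))
        (x : B ⟶ F.obj.obj (op p)),
        x ≫ φ.hom.app (op p) = y ≫ G.obj.map (homOfLE (show p ≤ q by lia)).op →
        ∃ (B' : A) (π : B' ⟶ B) (_ : Epi π) (x' : B' ⟶ F.obj.obj (op q)),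
          π ≫ y = x' ≫ φ.hom.app (op q) := by
      intro n
      induction n with
      | zero =>
        intro p q hn B y x e
        obtain rfl : p = q := by simpa using hn
        rw [show (homOfLE (le_refl p)).op = 𝟙 _ from rfl, CategoryTheory.Functor.map_id,
          Category.comp_id] at e
        exact ⟨B, 𝟙 B, inferInstance, x, by rw [Category.id_comp, e]⟩
      | succ n ih =>
        intro p q hn B y x e
        obtain rfl : q = p + n + 1 := by push_cast at hn; lia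
        obtain ⟨B', π, _, x₁, hx₁⟩ := ih p (p + n) rfl (y ≫ G.obj.map (FilD.stepHom (p + n))) x (by
          rw [Category.assoc, ← G.obj.map_comp]; exact e)
        obtain ⟨B'', π', _, x₂, hx₂⟩ := h (p + n) (π ≫ y) x₁ (by rw [Category.assoc, ← hx₁])
        exact ⟨B'', π' ≫ π, inferInstance, x₂, by rw [Category.assoc, hx₂]⟩
    intro p q hpq
    have hm : Mono (G.obj.map (homOfLE hpq).op) := mono_map G _
    refine le_antisymm (le_inf ?_ ?_) ?_
    · refine imageSubobject_le _ ((imageSubobject (φ.hom.app (op p))).factorThru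
        (φ.hom.app (op q) ≫ G.obj.map (homOfLE hpq).op) ?_) (Subobject.factorThru_arrow _ _ _)
      rw [← φ.hom.naturality]
      exact imageSubobject_factors_comp_self _ _
    · exact imageSubobject_le _ (φ.hom.app (op q) ≫ (Subobject.underlyingIso _).inv)
        (by rw [Category.assoc, Subobject.underlyingIso_arrow])
    · let S := imageSubobject (φ.hom.app (op p)) ⊓ Subobject.mk (G.obj.map (homOfLE hpq).op)
      obtain ⟨h1, h2⟩ := (Subobject.inf_factors _).1 (Subobject.factors_self S)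
      obtain ⟨y, hy⟩ : ∃ y : (S : A) ⟶ G.obj.obj (op q),
          y ≫ G.obj.map (homOfLE hpq).op = S.arrow := (Subobject.mk_factors_iff _ _).1 h2
      obtain ⟨B', π, _, x, hx⟩ := (imageSubobject_factors_iff _ _).1 h1
      have hy' : y ≫ G.obj.map (homOfLE hpq).op = S.arrow := hy
      obtain ⟨B'', π', _, x', hx'⟩ := key (q - p).toNat p q (by lia) (π ≫ y) x
        (by rw [Category.assoc, hy', ← hx])
      have hfac : (imageSubobject (φ.hom.app (op q) ≫ G.obj.map (homOfLE hpq).op)).Factors S.arrow :=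
        (imageSubobject_factors_iff _ _).2 ⟨B'', π' ≫ π, inferInstance, x', by
          rw [← hy', ← reassoc_of% hx', Category.assoc]⟩
      exact Subobject.le_of_comm _ (Subobject.factorThru_arrow _ _ hfac)

lemma comp_hom_zero (S : ShortComplex (FilD.FilF A)) : S.f.hom ≫ S.g.hom = 0 :=
  congrArg (fun ψ => ψ.hom) S.zero

lemma exact_levels_of_gr_exact (S : ShortComplex (FilD.FilF A))
    (hS : ∀ p : ℤ, (S.map (FilD.grF A p)).Exact) (p : ℤ) :
    (S.map ((FilD.IsFinFil A).ι ⋙ (evaluation ℤᵒᵖ A).obj (op p))).Exact := by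
  obtain ⟨b, hb⟩ := S.X₂.property.2.1
  suffices ∀ (n : ℕ) (p : ℤ), b ≤ p + n →
      (S.map ((FilD.IsFinFil A).ι ⋙ (evaluation ℤᵒᵖ A).obj (op p))).Exact from
    this (b - p).toNat p (by lia)
  intro n
  induction n with
  | zero => exact fun p hp => ShortComplex.exact_of_isZero_X₂ _ (hb p (by lia))
  | succ n ih =>
    intro p hp
    rw [ShortComplex.exact_iff_exact_up_to_refinements]
    suffices key : ∀ (B : A) (y : B ⟶ S.X₂.obj.obj (op p)), y ≫ S.g.hom.app (op p) = 0 →
        ∃ (B' : A) (π : B' ⟶ B) (_ : Epi π) (x : B' ⟶ S.X₁.obj.obj (op p)),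
          π ≫ y = x ≫ S.f.hom.app (op p) from fun B y hy => key B y hy
    intro B y hy
    have hbar : (y ≫ proj S.X₂.obj p) ≫ (FilD.gr A p).map S.g.hom = 0 := by
      rw [Category.assoc, ← proj_naturality, reassoc_of% hy, zero_comp]
    obtain ⟨B1, π1, _, x1, hx1⟩ := refines' ((FilD.gr A p).map S.f.hom) ((FilD.gr A p).map S.g.hom)
      (by rw [← Functor.map_comp, comp_hom_zero S, Functor.map_zero]) (hS p) (y ≫ proj S.X₂.obj p) hbar
    obtain ⟨B2, π2, _, x, hx⟩ := surjective_up_to_refinements_of_epi (proj S.X₁.obj p) x1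
    have h0 : (π2 ≫ π1 ≫ y - x ≫ S.f.hom.app (op p)) ≫ proj S.X₂.obj p = 0 := by
      have hx1' : π1 ≫ y ≫ proj S.X₂.obj p = x1 ≫ (FilD.gr A p).map S.f.hom := hx1
      rw [Preadditive.sub_comp, Category.assoc, Category.assoc, Category.assoc, hx1',
        proj_naturality, reassoc_of% hx, sub_self]
    obtain ⟨B3, π3, _, z, hz⟩ := proj_eq_zero _ p _ h0
    have hm : Mono (S.X₃.obj.map (FilD.stepHom p)) := mono_map _ _
    have hfg : S.f.hom.app (op p) ≫ S.g.hom.app (op p) = 0 :=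
      NatTrans.congr_app (congrArg (fun ψ => ψ.hom) S.zero) (op p)
    have hz0 : z ≫ S.g.hom.app (op (p + 1)) = 0 := by
      rw [← cancel_mono (S.X₃.obj.map (FilD.stepHom p)), zero_comp, Category.assoc,
        ← S.g.hom.naturality, ← Category.assoc, ← hz]
      simp [hy, hfg]
    obtain ⟨B4, π4, _, w, hw⟩ := refines' (S.f.hom.app (op (p + 1))) (S.g.hom.app (op (p + 1)))
      (NatTrans.congr_app (congrArg (fun ψ => ψ.hom) S.zero) (op (p + 1))) (ih (p + 1) (by lia)) z hz0
    have hw' : π4 ≫ z = w ≫ S.f.hom.app (op (p + 1)) := hw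
    refine ⟨B4, π4 ≫ π3 ≫ π2 ≫ π1, inferInstance,
      π4 ≫ π3 ≫ x + w ≫ S.X₁.obj.map (FilD.stepHom p), ?_⟩
    rw [Preadditive.add_comp, Category.assoc, Category.assoc, Category.assoc, Category.assoc,
      Category.assoc, Category.assoc, S.f.hom.naturality, ← reassoc_of% hw', ← hz]
    simp

/-- Strictness from exactness of `gr X → gr Y → gr Z`. -/
lemma strict_step_of_gr_exact {K X Y : ℤᵒᵖ ⥤ A} (k : K ⟶ X) (φ : X ⟶ Y) (w : k ≫ φ = 0) (p : ℤ)
    [Mono (Y.map (FilD.stepHom p))]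
    (h : ((ShortComplex.mk k φ w).map (FilD.gr A p)).Exact)
    {B : A} (y : B ⟶ Y.obj (op (p + 1))) (x : B ⟶ X.obj (op p))
    (e : x ≫ φ.app (op p) = y ≫ Y.map (FilD.stepHom p)) :
    ∃ (B' : A) (π : B' ⟶ B) (_ : Epi π) (x' : B' ⟶ X.obj (op (p + 1))),
      π ≫ y = x' ≫ φ.app (op (p + 1)) := by
  have hbar : (x ≫ proj X p) ≫ (FilD.gr A p).map φ = 0 := by
    rw [Category.assoc, ← proj_naturality, reassoc_of% e, step_proj, comp_zero]
  obtain ⟨B1, π1, _, x1, hx1⟩ := refines' ((FilD.gr A p).map k) ((FilD.gr A p).map φ)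
    (by rw [← Functor.map_comp, w, Functor.map_zero]) h (x ≫ proj X p) hbar
  have hx1' : π1 ≫ x ≫ proj X p = x1 ≫ (FilD.gr A p).map k := hx1
  obtain ⟨B2, π2, _, t, ht⟩ := surjective_up_to_refinements_of_epi (proj K p) x1
  have h0 : (π2 ≫ π1 ≫ x - t ≫ k.app (op p)) ≫ proj X p = 0 := by
    rw [Preadditive.sub_comp, Category.assoc, Category.assoc, Category.assoc, hx1',
      proj_naturality, reassoc_of% ht, sub_self]
  obtain ⟨B3, π3, _, x', hx'⟩ := proj_eq_zero _ p _ h0
  refine ⟨B3, π3 ≫ π2 ≫ π1, inferInstance, x', ?_⟩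
  have hkφ : k.app (op p) ≫ φ.app (op p) = 0 := NatTrans.congr_app w (op p)
  rw [← cancel_mono (Y.map (FilD.stepHom p)), Category.assoc, Category.assoc, Category.assoc,
    Category.assoc, ← e, ← φ.naturality, ← reassoc_of% hx']
  simp [hkφ]

lemma strict_of_gr_exact_right {K : ℤᵒᵖ ⥤ A} (φ : F ⟶ G) (k : K ⟶ F.obj) (w : k ≫ φ.hom = 0)
    (h : ∀ p : ℤ, ((ShortComplex.mk k φ.hom w).map (FilD.gr A p)).Exact) : FilD.IsStrict φ :=
  (isStrict_iff φ).2 fun p _ y x e =>
    have : Mono (G.obj.map (FilD.stepHom p)) := mono_map G _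
    strict_step_of_gr_exact k φ.hom w p (h p) y x e

lemma strict_of_exact_levels (S : ShortComplex (FilD.FilF A))
    (h : ∀ p : ℤ, (S.map ((FilD.IsFinFil A).ι ⋙ (evaluation ℤᵒᵖ A).obj (op p))).Exact) :
    FilD.IsStrict S.f := by
  rw [isStrict_iff]
  intro p B y x e
  have hm : Mono (S.X₃.obj.map (FilD.stepHom p)) := mono_map _ _
  have hfg : S.f.hom.app (op p) ≫ S.g.hom.app (op p) = 0 :=
    NatTrans.congr_app (congrArg (fun ψ => ψ.hom) S.zero) (op p)
  have hy : y ≫ S.g.hom.app (op (p + 1)) = 0 := by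
    rw [← cancel_mono (S.X₃.obj.map (FilD.stepHom p)), zero_comp, Category.assoc,
      ← S.g.hom.naturality, ← reassoc_of% e, hfg, comp_zero]
  obtain ⟨B', π, hπ, x', hx'⟩ :=
    (ShortComplex.exact_iff_exact_up_to_refinements _).1 (h (p + 1)) y hy
  exact ⟨B', π, hπ, x', hx'⟩

lemma exact_levels_kernel {X Y : ℤᵒᵖ ⥤ A} (φ : X ⟶ Y) (p : ℤ) :
    ((ShortComplex.mk (kernel.ι φ) φ (kernel.condition φ)).map
      ((evaluation ℤᵒᵖ A).obj (op p))).Exact :=
  (ShortComplex.exact_of_f_is_kernel _ (kernelIsKernel φ)).map _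

lemma gr_kernel_exact_of_strict (φ : F ⟶ G) (hφ : FilD.IsStrict φ) (p : ℤ) :
    ((ShortComplex.mk (kernel.ι φ.hom) φ.hom (kernel.condition φ.hom)).map (FilD.gr A p)).Exact := by
  rw [ShortComplex.exact_iff_exact_up_to_refinements]
  suffices key : ∀ (B : A) (xb : B ⟶ (FilD.gr A p).obj F.obj), xb ≫ (FilD.gr A p).map φ.hom = 0 →
      ∃ (B' : A) (π : B' ⟶ B) (_ : Epi π) (x : B' ⟶ (FilD.gr A p).obj (kernel φ.hom)),
        π ≫ xb = x ≫ (FilD.gr A p).map (kernel.ι φ.hom) from fun B y hy => key B y hy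
  intro B xb hxb
  obtain ⟨B1, π1, _, x, hx⟩ := surjective_up_to_refinements_of_epi (proj F.obj p) xb
  have h1 : (x ≫ φ.hom.app (op p)) ≫ proj G.obj p = 0 := by
    rw [Category.assoc, proj_naturality, ← reassoc_of% hx, hxb, comp_zero]
  obtain ⟨B2, π2, _, y, hy⟩ := proj_eq_zero _ p _ h1
  obtain ⟨B3, π3, _, x', hx'⟩ := (isStrict_iff φ).1 hφ p y (π2 ≫ x) (by rw [Category.assoc, hy])
  have h2 : (π3 ≫ π2 ≫ x - x' ≫ F.obj.map (FilD.stepHom p)) ≫ φ.hom.app (op p) = 0 := by
    rw [Preadditive.sub_comp, Category.assoc, Category.assoc, Category.assoc, hy, φ.hom.naturality,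
      reassoc_of% hx', sub_self]
  obtain ⟨B4, π4, _, k, hk⟩ := refines' ((kernel.ι φ.hom).app (op p)) (φ.hom.app (op p))
    (NatTrans.congr_app (kernel.condition φ.hom) (op p)) (exact_levels_kernel φ.hom p) _ h2
  have hk' : π4 ≫ (π3 ≫ π2 ≫ x - x' ≫ F.obj.map (FilD.stepHom p)) =
      k ≫ (kernel.ι φ.hom).app (op p) := hk
  refine ⟨B4, π4 ≫ π3 ≫ π2 ≫ π1, inferInstance, k ≫ proj _ p, ?_⟩
  rw [Category.assoc, Category.assoc, Category.assoc, Category.assoc, hx, ← proj_naturality,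
    ← reassoc_of% hk']
  simp [step_proj]

end FilF

end Groth.Agent.FilLib
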