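import Groth.Agent.FilLib.Inj
import Mathlib.CategoryTheory.Preadditive.Biproducts
import Mathlib.Algebra.Homology.ShortComplex.PreservesHomology
import Mathlib.Algebra.Homology.ShortComplex.ExactFunctor

/-! The category of finite filtered objects: biproducts, cokernels of strict maps, graded exactness. -/

universe v u

open CategoryTheory CategoryTheory.Limits Opposite

namespace Groth.Agent.FilLib

variable {A : Type u} [Category.{v} A] [Abelian A]

lemma exact_of_levels (S : ShortComplex (ℤᵒᵖ ⥤ A))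
    (h : ∀ x, (S.map ((evaluation ℤᵒᵖ A).obj x)).Exact) : S.Exact := by
  rw [ShortComplex.exact_iff_isZero_homology, Functor.isZero_iff]
  intro x
  exact ((ShortComplex.exact_iff_isZero_homology _).1 (h x)).of_iso
    (S.mapHomologyIso ((evaluation ℤᵒᵖ A).obj x)).symm

lemma mono_map_of_step (F : ℤᵒᵖ ⥤ A) (h : ∀ p, Mono (F.map (FilD.stepHom p))) {x y : ℤᵒᵖ}
    (f : x ⟶ y) : Mono (F.map f) := by
  obtain ⟨q⟩ := x
  obtain ⟨p⟩ := y
  have hpq : p ≤ q := leOfHom f.unop
  obtain ⟨n, rfl⟩ : ∃ n : ℕ, p + n = q := ⟨(q - p).toNat, by lia⟩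
  suffices ∀ (n : ℕ) (q : ℤ) (_ : p + n = q) (f : op q ⟶ op p), Mono (F.map f) from this n _ rfl f
  intro n
  induction n with
  | zero =>
    intro q hq f
    obtain rfl : q = p := by simp at hq; lia
    rw [show f = 𝟙 _ from Subsingleton.elim f _, CategoryTheory.Functor.map_id]
    infer_instance
  | succ n ih =>
    intro q hq f
    obtain rfl : q = p + n + 1 := by push_cast at hq; lia
    rw [show f = FilD.stepHom (p + n) ≫ (homOfLE (show p ≤ p + n by lia)).op from Subsingleton.elim f _,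
      F.map_comp]
    have := h (p + n)
    have := ih (p + n) rfl (homOfLE (show p ≤ p + n by lia)).op
    infer_instance

lemma isFinFil_biprod (F G : FilD.FilF A) : FilD.IsFinFil A (F.obj ⊞ G.obj) := by
  obtain ⟨b₁, hb₁⟩ := F.property.2.1
  obtain ⟨b₂, hb₂⟩ := G.property.2.1
  obtain ⟨a₁, ha₁⟩ := F.property.2.2
  obtain ⟨a₂, ha₂⟩ := G.property.2.2
  have hid : ∀ x, (biprod.fst : F.obj ⊞ G.obj ⟶ _).app x ≫ (biprod.inl : F.obj ⟶ F.obj ⊞ G.obj).app x +
      (biprod.snd : F.obj ⊞ G.obj ⟶ _).app x ≫ (biprod.inr : G.obj ⟶ F.obj ⊞ G.obj).app x = 𝟙 _ :=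
    fun x => by
      exact NatTrans.congr_app (biprod.total (X := F.obj) (Y := G.obj)) x
  refine ⟨fun x y f => Preadditive.mono_of_cancel_zero _ fun {B} z hz => ?_,
    ⟨max b₁ b₂, fun p hp => ?_⟩, ⟨min a₁ a₂, fun x y f hx => ?_⟩⟩
  · have := mono_map F f
    have := mono_map G f
    have h1 : z ≫ (biprod.fst : F.obj ⊞ G.obj ⟶ _).app x = 0 := by
      rw [← cancel_mono (F.obj.map f), Category.assoc, ← NatTrans.naturality, reassoc_of% hz,
        zero_comp, zero_comp]
    have h2 : z ≫ (biprod.snd : F.obj ⊞ G.obj ⟶ _).app x = 0 := by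
      rw [← cancel_mono (G.obj.map f), Category.assoc, ← NatTrans.naturality, reassoc_of% hz,
        zero_comp, zero_comp]
    rw [← Category.comp_id z, ← hid x, Preadditive.comp_add, reassoc_of% h1, reassoc_of% h2]
    simp
  · rw [IsZero.iff_id_eq_zero, ← hid, (hb₁ p (by lia)).eq_of_tgt ((biprod.fst : F.obj ⊞ G.obj ⟶ _).app _) 0,
      (hb₂ p (by lia)).eq_of_tgt ((biprod.snd : F.obj ⊞ G.obj ⟶ _).app _) 0]
    simp
  · have := ha₁ f (by lia)
    have := ha₂ f (by lia)
    refine ⟨(biprod.fst : F.obj ⊞ G.obj ⟶ _).app y ≫ inv (F.obj.map f) ≫ (biprod.inl : F.obj ⟶ F.obj ⊞ G.obj).app x +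
      (biprod.snd : F.obj ⊞ G.obj ⟶ _).app y ≫ inv (G.obj.map f) ≫ (biprod.inr : G.obj ⟶ F.obj ⊞ G.obj).app x, ?_, ?_⟩
    · rw [Preadditive.comp_add, ← Category.assoc, NatTrans.naturality, ← Category.assoc ((F.obj ⊞ G.obj).map f),
        NatTrans.naturality]
      simp only [Category.assoc, IsIso.hom_inv_id_assoc]
      exact hid x
    · rw [Preadditive.add_comp, Category.assoc, Category.assoc, Category.assoc, Category.assoc,
        ← NatTrans.naturality, ← NatTrans.naturality, IsIso.inv_hom_id_assoc, IsIso.inv_hom_id_assoc]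
      exact hid y

instance hasBinaryBiproducts : HasBinaryBiproducts (FilD.FilF A) where
  has_binary_biproduct F G := by
    let P : FilD.FilF A := ⟨F.obj ⊞ G.obj, isFinFil_biprod F G⟩
    let b : BinaryBicone F G :=
      { pt := P
        fst := ObjectProperty.homMk biprod.fst
        snd := ObjectProperty.homMk biprod.snd
        inl := ObjectProperty.homMk biprod.inl
        inr := ObjectProperty.homMk biprod.inr
        inl_fst := by ext1; exact biprod.inl_fst
        inl_snd := by ext1; exact biprod.inl_snd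
        inr_fst := by ext1; exact biprod.inr_fst
        inr_snd := by ext1; exact biprod.inr_snd }
    refine hasBinaryBiproduct_of_total b ?_
    ext1
    exact biprod.total

section Coker

variable {F G : FilD.FilF A} (φ : F ⟶ G)

lemma isFinFil_cokernel (hφ : FilD.IsStrict φ) : FilD.IsFinFil A (cokernel φ.hom) := by
  obtain ⟨b, hb⟩ := G.property.2.1
  obtain ⟨a, ha⟩ := G.property.2.2
  have hep : ∀ x, Epi ((cokernel.π φ.hom).app x) := fun x =>
    inferInstanceAs (Epi (((evaluation ℤᵒᵖ A).obj x).map (cokernel.π φ.hom)))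
  have hex : ∀ x, ((ShortComplex.mk _ _ (cokernel.condition φ.hom)).map
      ((evaluation ℤᵒᵖ A).obj x)).Exact := fun x =>
    (ShortComplex.exact_of_g_is_cokernel (ShortComplex.mk _ _ (cokernel.condition φ.hom))
      (cokernelIsCokernel φ.hom)).map _
  have hw : ∀ x, φ.hom.app x ≫ (cokernel.π φ.hom).app x = 0 := fun x =>
    NatTrans.congr_app (cokernel.condition φ.hom) x
  have hm : ∀ {x y : ℤᵒᵖ} (f : x ⟶ y), Mono ((cokernel φ.hom).map f) := by
    refine fun {x y} f => mono_map_of_step _ (fun p => ?_) f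
    refine Preadditive.mono_of_cancel_zero _ fun {B} z hz => ?_
    obtain ⟨B1, π1, _, w, hw'⟩ :=
      surjective_up_to_refinements_of_epi ((cokernel.π φ.hom).app (op (p + 1))) z
    have h1 : (w ≫ G.obj.map (FilD.stepHom p)) ≫ (cokernel.π φ.hom).app (op p) = 0 := by
      rw [Category.assoc, NatTrans.naturality, ← reassoc_of% hw', hz, comp_zero]
    obtain ⟨B2, π2, _, x, hx⟩ := refines' _ _ (hw (op p)) (hex (op p)) _ h1
    obtain ⟨B3, π3, _, x', hx'⟩ := (isStrict_iff φ).1 hφ p (π2 ≫ w) x (by rw [Category.assoc, hx])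
    rw [← cancel_epi (π3 ≫ π2 ≫ π1), comp_zero, Category.assoc, Category.assoc, hw',
      reassoc_of% hx', hw, comp_zero]
  refine ⟨fun x y f => hm f, ⟨b, fun p hp => ?_⟩, ⟨a, fun x y f hx => ?_⟩⟩
  · exact IsZero.of_epi ((cokernel.π φ.hom).app (op p)) (hb p hp)
  · have := hm f
    have := ha f hx
    have : Epi ((cokernel φ.hom).map f) :=
      epi_of_epi_fac (f := (cokernel.π φ.hom).app x) (g := (cokernel φ.hom).map f)
        (h := G.obj.map f ≫ (cokernel.π φ.hom).app y) ((cokernel.π φ.hom).naturality f).symm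
    exact isIso_of_mono_of_epi _

end Coker

lemma gr_exact_of_levels (S : ShortComplex (FilD.FilF A))
    (hl : ∀ p : ℤ, (S.map ((FilD.IsFinFil A).ι ⋙ (evaluation ℤᵒᵖ A).obj (op p))).Exact)
    (hs : FilD.IsStrict S.g) (p : ℤ) : (S.map (FilD.grF A p)).Exact := by
  rw [ShortComplex.exact_iff_exact_up_to_refinements]
  suffices key : ∀ (B : A) (xb : B ⟶ (FilD.gr A p).obj S.X₂.obj), xb ≫ (FilD.gr A p).map S.g.hom = 0 →
      ∃ (B' : A) (π : B' ⟶ B) (_ : Epi π) (x : B' ⟶ (FilD.gr A p).obj S.X₁.obj),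
        π ≫ xb = x ≫ (FilD.gr A p).map S.f.hom from fun B y hy => key B y hy
  intro B xb hxb
  obtain ⟨B1, π1, _, x, hx⟩ := surjective_up_to_refinements_of_epi (proj S.X₂.obj p) xb
  have h1 : (x ≫ S.g.hom.app (op p)) ≫ proj S.X₃.obj p = 0 := by
    rw [Category.assoc, proj_naturality, ← reassoc_of% hx, hxb, comp_zero]
  obtain ⟨B2, π2, _, y, hy⟩ := proj_eq_zero _ p _ h1
  obtain ⟨B3, π3, _, x', hx'⟩ := (isStrict_iff S.g).1 hs p y (π2 ≫ x) (by rw [Category.assoc, hy])
  have h2 : (π3 ≫ π2 ≫ x - x' ≫ S.X₂.obj.map (FilD.stepHom p)) ≫ S.g.hom.app (op p) = 0 := by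
    rw [Preadditive.sub_comp, Category.assoc, Category.assoc, Category.assoc, hy,
      S.g.hom.naturality, reassoc_of% hx', sub_self]
  obtain ⟨B4, π4, _, k, hk⟩ := refines' (S.f.hom.app (op p)) (S.g.hom.app (op p))
    (NatTrans.congr_app (comp_hom_zero S) (op p)) (hl p) _ h2
  refine ⟨B4, π4 ≫ π3 ≫ π2 ≫ π1, inferInstance, k ≫ proj _ p, ?_⟩
  rw [Category.assoc, Category.assoc, Category.assoc, Category.assoc, hx, ← proj_naturality,
    ← reassoc_of% hk]
  simp [step_proj]

end Groth.Agent.FilLib
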