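import Groth.Agent.FilLib.Inj

/-! Every finite filtered object embeds strictly into a filtered injective one. -/

universe v u

open CategoryTheory CategoryTheory.Limits Opposite

namespace Groth.Agent.FilLib

variable {A : Type u} [Category.{v} A] [Abelian A]

noncomputable local instance (K : Type) [Finite K] (f : K → A) : HasBiproduct f :=
  have : HasFiniteBiproducts A := Abelian.hasFiniteBiproducts
  have : HasBiproductsOfShape K A := hasBiproductsOfShape_finite A
  HasBiproductsOfShape.has_biproduct f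

lemma injective_biproduct {K : Type} [Finite K] (f : K → A) (h : ∀ k, Injective (f k)) :
    Injective (⨁ f) := by
  refine ⟨fun g m _ => ⟨biproduct.lift fun k => Injective.factorThru (g ≫ biproduct.π f k) m, ?_⟩⟩
  refine biproduct.hom_ext _ _ fun k => ?_
  rw [Category.assoc, biproduct.lift_π, Injective.comp_factorThru]

lemma injective_cokernel_of_isSplitMono {X Y : A} (m : X ⟶ Y) [IsSplitMono m] [Injective Y] :
    Injective (cokernel m) := by
  let s : cokernel m ⟶ Y := cokernel.desc m (𝟙 Y - retraction m ≫ m) (by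
    rw [Preadditive.comp_sub, Category.comp_id, IsSplitMono.id_assoc, sub_self])
  have hs : s ≫ cokernel.π m = 𝟙 _ := by
    rw [← cancel_epi (cokernel.π m), cokernel.π_desc_assoc, Preadditive.sub_comp, Category.id_comp,
      Category.assoc, cokernel.condition, comp_zero, sub_zero, Category.comp_id]
  refine ⟨fun {X' Y'} g m' _ => ⟨Injective.factorThru (g ≫ s) m' ≫ cokernel.π m, ?_⟩⟩
  rw [← Category.assoc, Injective.comp_factorThru, Category.assoc, hs, Category.comp_id]

lemma isFilteredInjective_cofree (a : ℤ) {n : ℕ} (J : Fin n → A) (hJ : ∀ k, Injective (J k)) :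
    FilD.IsFilteredInjective (⟨cofree a J, isFinFil_cofree a⟩ : FilD.FilF A) := by
  intro p
  have : Injective ((cofree a J).obj (op p)) := injective_biproduct _ fun k => hJ k.1
  have := isSplitMono_cofree_map (J := J) a (FilD.stepHom p)
  exact injective_cokernel_of_isSplitMono ((cofree a J).map (FilD.stepHom p))

variable (X : FilD.FilF A)

lemma exists_embedding [EnoughInjectives A] :
    ∃ (I : FilD.FilF A) (u : X ⟶ I), FilD.IsFilteredInjective I ∧ Mono u ∧ FilD.IsStrict u := by
  classical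
  obtain ⟨b, hb⟩ := X.property.2.1
  obtain ⟨a₀, ha₀⟩ := X.property.2.2
  let a := min a₀ b - 1
  have hm : ∀ {x y : ℤᵒᵖ} (f : x ⟶ y), Mono (X.obj.map f) := fun f => mono_map X f
  have hiso : ∀ {x y : ℤᵒᵖ} (f : x ⟶ y), x.unop ≤ a → IsIso (X.obj.map f) :=
    fun f h => ha₀ f (le_trans h (by lia))
  -- the map to the level `a`
  let η : ∀ x : ℤᵒᵖ, X.obj.obj x ⟶ X.obj.obj (op a) := fun x =>
    X.obj.map (homOfLE (min_le_left x.unop a)).op ≫
      (have := hiso (homOfLE (min_le_right x.unop a)).op le_rfl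
       inv (X.obj.map (homOfLE (min_le_right x.unop a)).op))
  have hη : ∀ (x : ℤᵒᵖ) (m : ℤ) (h1 : m ≤ a) (h2 : m ≤ x.unop),
      η x ≫ X.obj.map (homOfLE h1).op = X.obj.map (homOfLE h2).op := by
    intro x m h1 h2
    have := hiso (homOfLE (min_le_right x.unop a)).op le_rfl
    rw [show (homOfLE h1).op = (homOfLE (min_le_right x.unop a)).op ≫
        (homOfLE (le_min h2 h1)).op from rfl, X.obj.map_comp]
    simp only [η, Category.assoc, IsIso.inv_hom_id_assoc]
    rw [← X.obj.map_comp]
    rfl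
  have hηnat : ∀ {x y : ℤᵒᵖ} (f : x ⟶ y), X.obj.map f ≫ η y = η x := by
    intro x y f
    have hxy : y.unop ≤ x.unop := leOfHom f.unop
    have := hiso (homOfLE (show min y.unop a ≤ a from min_le_right _ _)).op le_rfl
    rw [← cancel_mono (X.obj.map (homOfLE (show min y.unop a ≤ a from min_le_right _ _)).op),
      Category.assoc, hη y _ _ (min_le_left _ _), hη x _ _ ((min_le_left _ _).trans hxy),
      ← X.obj.map_comp]
    rfl
  have hηmono : ∀ x, Mono (η x) := fun x => by
    have := hm (homOfLE (min_le_left x.unop a)).op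
    infer_instance
  let n : ℕ := (b - a).toNat
  let q : ∀ k : Fin n, op (a + (k : ℕ) + 1) ⟶ op a := fun k =>
    (homOfLE (show a ≤ a + ((k : ℕ) : ℤ) + 1 by lia)).op
  let J : Fin n → A := fun k => Injective.under (cokernel (X.obj.map (q k)))
  let c : ∀ k : Fin n, X.obj.obj (op a) ⟶ J k := fun k =>
    cokernel.π (X.obj.map (q k)) ≫ Injective.ι _
  have hc : ∀ (k : Fin n) {B : A} (z : B ⟶ X.obj.obj (op a)), z ≫ c k = 0 →
      ∃ (B' : A) (π : B' ⟶ B) (_ : Epi π) (z' : B' ⟶ X.obj.obj (op (a + (k : ℕ) + 1))),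
        π ≫ z = z' ≫ X.obj.map (q k) := fun k B z hz => by
    refine refines' (X.obj.map (q k)) (cokernel.π _) (cokernel.condition _)
      (ShortComplex.exact_of_g_is_cokernel _ (cokernelIsCokernel _)) z ?_
    rw [← cancel_mono (Injective.ι _), zero_comp, Category.assoc]
    exact hz
  let u : X.obj ⟶ cofree a J :=
    { app := fun x => biproduct.lift fun k : CIdx n a x.unop => η x ≫ c k.1
      naturality := fun x y f => by
        refine biproduct.hom_ext _ _ fun k => ?_
        refine ((Category.assoc _ _ _).trans ?_).trans (Category.assoc _ _ _).symm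
        rw [biproduct.lift_π, ← Category.assoc, hηnat]
        by_cases h : x.unop ≤ a + (k.1 : ℕ)
        · refine Eq.trans ?_ (congrArg (_ ≫ ·) (cofree_map_π a f k h)).symm
          exact (biproduct.lift_π (fun l : CIdx n a x.unop => η x ≫ c l.1) ⟨k.1, h⟩).symm
        · refine Eq.trans ?_ (congrArg (_ ≫ ·) (cofree_map_π_zero a f k h)).symm
          rw [← hηnat (homOfLE (show a + ((k.1 : ℕ) : ℤ) + 1 ≤ x.unop by lia)).op, Category.assoc,
            comp_zero]
          have e : η (op (a + ((k.1 : ℕ) : ℤ) + 1)) = X.obj.map (q k.1) := by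
            have := hη (op (a + ((k.1 : ℕ) : ℤ) + 1)) a le_rfl (show a ≤ a + ((k.1 : ℕ) : ℤ) + 1 by lia)
            rwa [show (homOfLE (le_refl a)).op = 𝟙 _ from rfl, CategoryTheory.Functor.map_id,
              Category.comp_id] at this
          rw [e]
          simp only [c, cokernel.condition_assoc, zero_comp, comp_zero] }
  let I : FilD.FilF A := ⟨cofree a J, isFinFil_cofree a⟩
  let U : X ⟶ I := ObjectProperty.homMk u
  have huπ : ∀ (x : ℤᵒᵖ) (k : CIdx n a x.unop),
      u.app x ≫ biproduct.π (fun l : CIdx n a x.unop => J l.1) k = η x ≫ c k.1 :=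
    fun x k => biproduct.lift_π _ _
  have hmono : ∀ x, Mono (u.app x) := by
    rintro ⟨p⟩
    by_cases hp : b ≤ p
    · exact Preadditive.mono_of_cancel_zero _ fun z _ => (hb p hp).eq_of_tgt _ _
    · refine Preadditive.mono_of_cancel_zero _ fun {B} z hz => ?_
      let k : Fin n := ⟨n - 1, by lia⟩
      have hk : p ≤ a + ((k : ℕ) : ℤ) := by simp only [k]; lia
      have h0 : (z ≫ η (op p)) ≫ c k = 0 := by
        rw [Category.assoc, ← huπ (op p) ⟨k, hk⟩, reassoc_of% hz, zero_comp]
      obtain ⟨B', π, _, z', hz'⟩ := hc k _ h0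
      have hz0 : z' = 0 := (hb _ (by simp only [k]; lia)).eq_of_tgt _ _
      rw [hz0, zero_comp, ← comp_zero (X := B') (f := π), cancel_epi] at hz'
      have := hηmono (op p)
      exact (cancel_mono (η (op p))).1 (hz'.trans zero_comp.symm)
  refine ⟨I, U, isFilteredInjective_cofree a J fun k => inferInstanceAs (Injective (Injective.under _)),
    mono_of_mono_app U hmono, (isStrict_iff U).2 fun p B y x e => ?_⟩
  have hmI : Mono (I.obj.map (FilD.stepHom p)) := mono_map I _
  suffices h : ∃ (B' : A) (π : B' ⟶ B) (_ : Epi π) (x' : B' ⟶ X.obj.obj (op (p + 1))),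
      π ≫ x = x' ≫ X.obj.map (FilD.stepHom p) by
    obtain ⟨B', π, hπ, x', hx'⟩ := h
    refine ⟨B', π, hπ, x', ?_⟩
    rw [← cancel_mono (I.obj.map (FilD.stepHom p)), Category.assoc, ← e, reassoc_of% hx',
      U.hom.naturality, Category.assoc]
  by_cases hpb : b ≤ p
  · exact ⟨B, 𝟙 B, inferInstance, 0, (hb p hpb).eq_of_tgt _ _⟩
  by_cases hpa : p + 1 ≤ a
  · have := hiso (FilD.stepHom p) hpa
    exact ⟨B, 𝟙 B, inferInstance, x ≫ inv (X.obj.map (FilD.stepHom p)), by simp⟩
  obtain ⟨k, hk⟩ : ∃ k : Fin n, a + ((k : ℕ) : ℤ) = p := ⟨⟨(p - a).toNat, by lia⟩, by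
    simp only; lia⟩
  have e1 : x ≫ u.app (op p) ≫ biproduct.π (fun l : CIdx n a p => J l.1) ⟨k, hk.ge⟩ = 0 := by
    rw [← Category.assoc]
    refine (congrArg (· ≫ _) e).trans ((Category.assoc _ _ _).trans ?_)
    refine (congrArg (y ≫ ·) (cofree_map_π_zero a (FilD.stepHom p) ⟨k, hk.ge⟩ ?_)).trans comp_zero
    show ¬ (p + 1 ≤ a + ((k : ℕ) : ℤ))
    lia
  rw [huπ] at e1
  obtain ⟨B', π, hπ, z', hz'⟩ := hc k (x ≫ η (op p)) (by rw [Category.assoc]; exact e1)
  refine ⟨B', π, hπ, z' ≫ eqToHom (by rw [hk]), ?_⟩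
  have := hηmono (op p)
  rw [← cancel_mono (η (op p)), Category.assoc, hz', Category.assoc, Category.assoc, hηnat]
  have e2 : ∀ (r : ℤ) (hr : r = a + ((k : ℕ) : ℤ) + 1),
      X.obj.map (q k) = eqToHom (by rw [hr]) ≫ η (op r) := by
    rintro r rfl
    have := hη (op (a + ((k : ℕ) : ℤ) + 1)) a le_rfl (show a ≤ a + ((k : ℕ) : ℤ) + 1 by lia)
    rw [show (homOfLE (le_refl a)).op = 𝟙 _ from rfl, CategoryTheory.Functor.map_id,
      Category.comp_id] at this
    rw [eqToHom_refl, Category.id_comp, this]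
  rw [e2 (p + 1) (by lia)]

end Groth.Agent.FilLib
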