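import Groth.Agent.FilLib.Cat
import Mathlib.Algebra.Homology.Homotopy
import Mathlib.Algebra.Homology.HomotopyCategory.Pretriangulated
import Mathlib.Algebra.Homology.HomotopyCategory.Acyclic
import Mathlib.Algebra.Homology.Embedding.CochainComplex
import Mathlib.Algebra.Homology.HomotopyCategory.MappingCone

/-! Maps into bounded below complexes of filtered injectives. -/

universe v u

open CategoryTheory CategoryTheory.Limits Opposite

namespace Groth.Agent.FilLib

section General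

variable {C : Type*} [Category C] [Preadditive C]

/-- A morphism to a bounded below complex is null homotopic as soon as maps killing the previous
differential factor through the next one. -/
lemma nullHomotopic_of_desc (K I : CochainComplex C ℤ) (a : ℤ) (hI : ∀ n < a, IsZero (I.X n))
    (hdesc : ∀ (i j k m : ℤ), i + 1 = j → j + 1 = k → ∀ ψ : K.X j ⟶ I.X m, m = j → K.d i j ≫ ψ = 0 →
      ∃ θ : K.X k ⟶ I.X m, K.d j k ≫ θ = ψ)
    (φ : K ⟶ I) : Nonempty (Homotopy φ 0) := by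
  let Eq1 : (∀ n : ℤ, K.X (n + 1) ⟶ I.X n) → ℤ → Prop := fun H n =>
    φ.f (n + 1) = K.d (n + 1) (n + 1 + 1) ≫ H (n + 1) + H n ≫ I.d n (n + 1)
  have step : ∀ (N : ℕ) (H : ∀ n : ℤ, K.X (n + 1) ⟶ I.X n), (∀ n, n + 1 < a + N → Eq1 H n) →
      ∃ H' : ∀ n : ℤ, K.X (n + 1) ⟶ I.X n,
        (∀ n, n + 1 < a + (N + 1 : ℕ) → Eq1 H' n) ∧ ∀ n, n ≠ a + N → H' n = H n := by
    intro N H hH
    obtain ⟨m, hm⟩ : ∃ m, m + 1 = a + (N : ℤ) := ⟨a + N - 1, by lia⟩
    have hz : K.d m (m + 1) ≫ (φ.f (m + 1) - H m ≫ I.d m (m + 1)) = 0 := by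
      obtain ⟨l, rfl⟩ : ∃ l, l + 1 = m := ⟨m - 1, by lia⟩
      rw [Preadditive.comp_sub, ← φ.comm, hH l (by lia)]
      simp
    obtain ⟨θ, hθ⟩ := hdesc m (m + 1) (m + 1 + 1) (m + 1) rfl rfl _ rfl hz
    refine ⟨Function.update H (m + 1) θ, fun n hn => ?_, fun n hn => Function.update_of_ne (by lia) _ _⟩
    show φ.f (n + 1) = K.d (n + 1) (n + 1 + 1) ≫ Function.update H (m + 1) θ (n + 1) +
      Function.update H (m + 1) θ n ≫ I.d n (n + 1)
    by_cases h : n = m
    · subst h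
      rw [Function.update_self, Function.update_of_ne (show n ≠ n + 1 by lia), hθ, sub_add_cancel]
    · rw [Function.update_of_ne (show n + 1 ≠ m + 1 by lia), Function.update_of_ne (show n ≠ m + 1 by lia)]
      exact hH n (by push_cast at hn; lia)
  let P : ℕ → Type _ := fun N =>
    {H : ∀ n : ℤ, K.X (n + 1) ⟶ I.X n // ∀ n, n + 1 < a + N → Eq1 H n}
  let F : ∀ N, P N := fun N => Nat.rec (motive := P)
    ⟨fun _ => 0, fun n hn => (hI (n + 1) (by lia)).eq_of_tgt _ _⟩
    (fun N H => ⟨(step N H.1 H.2).choose, (step N H.1 H.2).choose_spec.1⟩) N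
  have hstab : ∀ (n : ℤ) (N : ℕ), n < a + N → ∀ k : ℕ, (F (N + k)).1 n = (F N).1 n := by
    intro n N hn k
    induction k with
    | zero => rfl
    | succ k ih =>
      rw [← ih]
      exact (step (N + k) (F (N + k)).1 (F (N + k)).2).choose_spec.2 n (by push_cast; lia)
  let idx : ℤ → ℕ := fun n => (n + 1 - a).toNat
  let H : ∀ n : ℤ, K.X (n + 1) ⟶ I.X n := fun n => (F (idx n)).1 n
  have hH : ∀ n (N : ℕ), n < a + N → H n = (F N).1 n := fun n N hN => by
    rcases le_total (idx n) N with h | h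
    · obtain ⟨k, hk⟩ := Nat.exists_eq_add_of_le h
      rw [hk]
      exact (hstab n (idx n) (by simp only [idx]; lia) k).symm
    · obtain ⟨k, hk⟩ := Nat.exists_eq_add_of_le h
      simp only [H]
      rw [hk]
      exact hstab n N hN k
  have hall : ∀ n, Eq1 H n := fun n => by
    obtain ⟨N, hN⟩ : ∃ N : ℕ, n + 1 < a + N := ⟨(n + 2 - a).toNat, by lia⟩
    show φ.f (n + 1) = _
    rw [hH (n + 1) N hN, hH n N (by lia)]
    exact (F N).2 n hN
  let hom : ∀ i j, K.X i ⟶ I.X j := fun i j =>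
    if h : j + 1 = i then eqToHom (by rw [h]) ≫ H j else 0
  refine ⟨{ hom := hom, zero := fun i j hij => dif_neg hij, comm := fun i => ?_ }⟩
  obtain ⟨n, rfl⟩ : ∃ n, n + 1 = i := ⟨i - 1, by lia⟩
  rw [dNext_eq hom (show (ComplexShape.up ℤ).Rel (n + 1) (n + 1 + 1) from rfl),
    prevD_eq hom (show (ComplexShape.up ℤ).Rel n (n + 1) from rfl)]
  simp only [hom, dif_pos, eqToHom_refl, Category.id_comp, HomologicalComplex.zero_f, add_zero]
  exact hall n

end General

variable {A : Type u} [Category.{v} A] [Abelian A]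

lemma strict_kernel_ι {F G : FilD.FilF A} (φ : F ⟶ G) :
    FilD.IsStrict (ObjectProperty.homMk (kernel.ι φ.hom) :
      (⟨kernel φ.hom, isFinFil_kernel φ⟩ : FilD.FilF A) ⟶ F) := by
  rw [isStrict_iff]
  intro p B y x e
  have := mono_map G (FilD.stepHom p)
  have e' : x ≫ (kernel.ι φ.hom).app (op p) = y ≫ F.obj.map (FilD.stepHom p) := e
  have h0 : y ≫ φ.hom.app (op (p + 1)) = 0 := by
    rw [← cancel_mono (G.obj.map (FilD.stepHom p)), zero_comp, Category.assoc, ← φ.hom.naturality,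
      ← reassoc_of% e', ← NatTrans.comp_app, kernel.condition, NatTrans.app_zero, comp_zero]
  exact refines' ((kernel.ι φ.hom).app (op (p + 1))) (φ.hom.app (op (p + 1)))
    (NatTrans.congr_app (kernel.condition φ.hom) _) (exact_levels_kernel φ.hom (p + 1)) y h0

lemma exact_of_gr_exact (S : ShortComplex (FilD.FilF A))
    (hS : ∀ p : ℤ, (S.map (FilD.grF A p)).Exact) : (S.map (FilD.IsFinFil A).ι).Exact :=
  exact_of_levels _ fun x => exact_levels_of_gr_exact S hS x.unop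

lemma gr_exact_sc (K : CochainComplex (FilD.FilF A) ℤ) (hK : FilD.IsFilteredAcyclic K) {i j k : ℤ}
    (hij : i + 1 = j) (hjk : j + 1 = k) (p : ℤ) :
    ((K.sc' i j k).map (FilD.grF A p)).Exact := by
  have := hK p j
  rwa [HomologicalComplex.exactAt_iff' _ i j k ((ComplexShape.up ℤ).prev_eq' hij)
    ((ComplexShape.up ℤ).next_eq' hjk)] at this

lemma exists_desc (K : CochainComplex (FilD.FilF A) ℤ) (hK : FilD.IsFilteredAcyclic K)
    {I : FilD.FilF A} (hI : FilD.IsFilteredInjective I) {i j k : ℤ} (hij : i + 1 = j) (hjk : j + 1 = k)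
    (ψ : K.X j ⟶ I) (hψ : K.d i j ≫ ψ = 0) : ∃ θ : K.X k ⟶ I, K.d j k ≫ θ = ψ := by
  let l := k + 1
  let Z : FilD.FilF A := ⟨kernel (K.d k l).hom, isFinFil_kernel (K.d k l)⟩
  let ι : Z ⟶ K.X k := ObjectProperty.homMk (kernel.ι (K.d k l).hom)
  have hι : FilD.IsStrict ι := strict_kernel_ι (K.d k l)
  have : Mono ι.hom := inferInstanceAs (Mono (kernel.ι (K.d k l).hom))
  have : Mono ι := ⟨fun g g' e => by
    ext1
    exact (cancel_mono ι.hom).1 (congrArg (fun ψ => ψ.hom) e)⟩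
  have hdd : (K.d j k).hom ≫ (K.d k l).hom = 0 := congrArg (fun ψ => ψ.hom) (K.d_comp_d j k l)
  have h1 := exact_of_gr_exact (K.sc' j k l) (gr_exact_sc K hK hjk rfl)
  let π : (K.X j).obj ⟶ kernel (K.d k l).hom := kernel.lift (K.d k l).hom (K.d j k).hom hdd
  have : Epi π := h1.epi_kernelLift
  have h2 : (K.d i j).hom ≫ π = 0 := by
    rw [← cancel_mono (kernel.ι (K.d k l).hom), zero_comp, Category.assoc, kernel.lift_ι]
    exact congrArg (fun ψ => ψ.hom) (K.d_comp_d i j k)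
  have h3 : (ShortComplex.mk (K.d i j).hom π h2).Exact := by
    have h := exact_of_gr_exact (K.sc' i j k) (gr_exact_sc K hK hij hjk)
    let m : ShortComplex.mk (K.d i j).hom π h2 ⟶ (K.sc' i j k).map (FilD.IsFinFil A).ι :=
      { τ₁ := 𝟙 _, τ₂ := 𝟙 _, τ₃ := kernel.ι (K.d k l).hom
        comm₁₂ := (Category.id_comp _).trans (Category.comp_id _).symm
        comm₂₃ := (Category.id_comp _).trans (kernel.lift_ι _ _ _).symm }
    have : IsIso m.τ₁ := ⟨𝟙 (K.X i).obj, Category.id_comp _, Category.id_comp _⟩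
    have : IsIso m.τ₂ := ⟨𝟙 (K.X j).obj, Category.id_comp _, Category.id_comp _⟩
    have : Mono m.τ₃ := inferInstanceAs (Mono (kernel.ι (K.d k l).hom))
    exact (ShortComplex.exact_iff_of_epi_of_isIso_of_mono m).2 h
  let η : Z ⟶ I := ObjectProperty.homMk (h3.desc ψ.hom (congrArg (fun ψ => ψ.hom) hψ))
  obtain ⟨θ, hθ⟩ := exists_extension ι η hι hI
  refine ⟨θ, ?_⟩
  ext1
  have e1 : π ≫ kernel.ι (K.d k l).hom = (K.d j k).hom := kernel.lift_ι _ _ _
  calc (K.d j k ≫ θ).hom = (π ≫ kernel.ι (K.d k l).hom) ≫ θ.hom := by rw [e1]; rfl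
    _ = π ≫ η.hom := by rw [Category.assoc, ← hθ]; rfl
    _ = ψ.hom := h3.g_desc _ _

lemma nullHomotopic (K I : CochainComplex (FilD.FilF A) ℤ) (hK : FilD.IsFilteredAcyclic K) (a : ℤ)
    [I.IsStrictlyGE a] (hI : ∀ n, FilD.IsFilteredInjective (I.X n)) (φ : K ⟶ I) :
    Nonempty (Homotopy φ 0) :=
  nullHomotopic_of_desc K I a (fun _ h => I.isZero_of_isStrictlyGE a _ h)
    (fun _ _ _ _ h1 h2 ψ _ hψ => exists_desc K hK (hI _) h1 h2 ψ hψ) φ

end Groth.Agent.FilLib
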