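import Groth.Agent.FilLib.Basic
import Mathlib.CategoryTheory.Preadditive.Injective.Basic
import Mathlib.CategoryTheory.Limits.Shapes.Products
import Mathlib.CategoryTheory.Limits.Shapes.Biproducts
import Mathlib.Algebra.Homology.ShortComplex.ShortExact

/-! Filtered injective objects. -/

universe v u

open CategoryTheory CategoryTheory.Limits Opposite

namespace Groth.Agent.FilLib

variable {A : Type u} [Category.{v} A] [Abelian A]

/-- Lift through a monomorphism which is the first map of an exact sequence. -/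
lemma lift_of_refinement {X Y B B' : A} (m : X ⟶ Y) [Mono m] (y : B ⟶ Y) (π : B' ⟶ B) [Epi π]
    (x : B' ⟶ X) (h : π ≫ y = x ≫ m) : ∃ z : B ⟶ X, z ≫ m = y := by
  have h' : y ≫ cokernel.π m = 0 := by
    rw [← cancel_epi π, reassoc_of% h, cokernel.condition, comp_zero, comp_zero]
  obtain ⟨w, hw⟩ := KernelFork.IsLimit.lift'
    (Abelian.monoIsKernelOfCokernel _ (cokernelIsCokernel m)) y h'
  exact ⟨w, hw⟩

section Kernel

variable {F G : FilD.FilF A} (φ : F ⟶ G)

lemma isFinFil_kernel : FilD.IsFinFil A (kernel φ.hom) := by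
  obtain ⟨b, hb⟩ := F.property.2.1
  obtain ⟨a, ha⟩ := F.property.2.2
  have hι : ∀ x, Mono ((kernel.ι φ.hom).app x) := fun x =>
    inferInstanceAs (Mono (((evaluation ℤᵒᵖ A).obj x).map (kernel.ι φ.hom)))
  refine ⟨fun x y f => ?_, ⟨b, fun p hp => ?_⟩, ⟨a, fun x y f hx => ?_⟩⟩
  · have := mono_map F f
    exact mono_of_mono_fac ((kernel.ι φ.hom).naturality f)
  · exact IsZero.of_mono ((kernel.ι φ.hom).app (op p)) (hb p hp)
  · have := ha f hx
    have := mono_map F f
    have := mono_map G f
    have : Mono ((kernel φ.hom).map f) := mono_of_mono_fac ((kernel.ι φ.hom).naturality f)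
    have hker : ∀ x, (kernel.ι φ.hom).app x ≫ φ.hom.app x = 0 := fun x =>
      NatTrans.congr_app (kernel.condition φ.hom) x
    have h0 : ((kernel.ι φ.hom).app y ≫ inv (F.obj.map f)) ≫ φ.hom.app x = 0 := by
      rw [← cancel_mono (G.obj.map f), zero_comp, Category.assoc, Category.assoc, ← φ.hom.naturality,
        IsIso.inv_hom_id_assoc, hker]
    obtain ⟨B', π, _, k, hk⟩ := refines' ((kernel.ι φ.hom).app x) (φ.hom.app x) (hker x)
      (exact_levels_kernel φ.hom x.unop) _ h0
    obtain ⟨z, hz⟩ := lift_of_refinement _ _ π k hk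
    have hz2 : z ≫ (kernel φ.hom).map f = 𝟙 _ := by
      rw [← cancel_mono ((kernel.ι φ.hom).app y), Category.assoc, (kernel.ι φ.hom).naturality,
        reassoc_of% hz, IsIso.inv_hom_id, Category.comp_id, Category.id_comp]
    have : Epi ((kernel φ.hom).map f) :=
      epi_of_epi_fac (f := z) (g := (kernel φ.hom).map f) (h := 𝟙 _) hz2
    exact isIso_of_mono_of_epi _

lemma mono_hom [Mono φ] : Mono φ.hom := by
  let K : FilD.FilF A := ⟨kernel φ.hom, isFinFil_kernel φ⟩
  let k : K ⟶ F := ObjectProperty.homMk (kernel.ι φ.hom)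
  have hk : k = 0 := (cancel_mono φ).1 (by
    ext1
    exact (kernel.condition φ.hom).trans zero_comp.symm)
  exact Abelian.mono_of_kernel_ι_eq_zero _ (congrArg (fun ψ => ψ.hom) hk)

lemma mono_app [Mono φ] (x : ℤᵒᵖ) : Mono (φ.hom.app x) :=
  have := mono_hom φ
  inferInstanceAs (Mono (((evaluation ℤᵒᵖ A).obj x).map φ.hom))

lemma mono_of_mono_app (h : ∀ x, Mono (φ.hom.app x)) : Mono φ := by
  have : Mono φ.hom := NatTrans.mono_of_mono_app _
  refine ⟨fun g h e => ?_⟩
  ext1
  exact (cancel_mono φ.hom).1 (congrArg (fun ψ => ψ.hom) e)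

lemma mono_gr_map [Mono φ] (hφ : FilD.IsStrict φ) (p : ℤ) : Mono ((FilD.gr A p).map φ.hom) := by
  refine Preadditive.mono_of_cancel_zero _ fun {B} xb hxb => ?_
  obtain ⟨B1, π1, _, x, hx⟩ := surjective_up_to_refinements_of_epi (proj F.obj p) xb
  have h1 : (x ≫ φ.hom.app (op p)) ≫ proj G.obj p = 0 := by
    rw [Category.assoc, proj_naturality, ← reassoc_of% hx, hxb, comp_zero]
  obtain ⟨B2, π2, _, y, hy⟩ := proj_eq_zero _ p _ h1
  obtain ⟨B3, π3, _, x', hx'⟩ := (isStrict_iff φ).1 hφ p y (π2 ≫ x) (by rw [Category.assoc, hy])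
  have := mono_app φ (op p)
  have e : π3 ≫ π2 ≫ x = x' ≫ F.obj.map (FilD.stepHom p) := by
    rw [← cancel_mono (φ.hom.app (op p)), Category.assoc, Category.assoc, Category.assoc, hy,
      φ.hom.naturality, reassoc_of% hx']
  rw [← cancel_epi (π3 ≫ π2 ≫ π1), comp_zero, Category.assoc, Category.assoc, hx, reassoc_of% e,
    step_proj, comp_zero]

end Kernel

lemma injective_level {I : FilD.FilF A} (hI : FilD.IsFilteredInjective I) (p : ℤ) :
    Injective (I.obj.obj (op p)) := by
  obtain ⟨b, hb⟩ := I.property.2.1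
  suffices ∀ (n : ℕ) (p : ℤ), b ≤ p + n → Injective (I.obj.obj (op p)) from
    this (b - p).toNat p (by lia)
  intro n
  induction n with
  | zero => exact fun p hp => IsZero.injective (hb p (by lia))
  | succ n ih =>
    intro p hp
    have := ih (p + 1) (by lia)
    have : Mono (I.obj.map (FilD.stepHom p)) := mono_map I _
    let S := ShortComplex.mk _ (proj I.obj p) (step_proj I.obj p)
    have hS : S.ShortExact :=
      { exact := ShortComplex.exact_of_g_is_cokernel _ (cokernelIsCokernel _) }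
    have : Injective S.X₁ := ih (p + 1) (by lia)
    have : Injective S.X₃ := hI p
    exact Injective.of_iso
      (ShortComplex.Splitting.isoBinaryBiproduct hS.splittingOfInjective).symm inferInstance

section Extension

variable {X Y I : FilD.FilF A} (u : X ⟶ Y) [Mono u] (f : X ⟶ I)

lemma extend_step (hu : FilD.IsStrict u) (p : ℤ) [Injective (I.obj.obj (op p))]
    (g' : Y.obj.obj (op (p + 1)) ⟶ I.obj.obj (op (p + 1)))
    (hg' : u.hom.app (op (p + 1)) ≫ g' = f.hom.app (op (p + 1))) :
    ∃ g : Y.obj.obj (op p) ⟶ I.obj.obj (op p), u.hom.app (op p) ≫ g = f.hom.app (op p) ∧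
      Y.obj.map (FilD.stepHom p) ≫ g = g' ≫ I.obj.map (FilD.stepHom p) := by
  let m := biprod.desc (u.hom.app (op p)) (Y.obj.map (FilD.stepHom p))
  let h := biprod.desc (f.hom.app (op p)) (g' ≫ I.obj.map (FilD.stepHom p))
  have hk : kernel.ι m ≫ h = 0 := by
    let x := kernel.ι m ≫ biprod.fst
    let y := kernel.ι m ≫ biprod.snd
    have e0 : x ≫ u.hom.app (op p) + y ≫ Y.obj.map (FilD.stepHom p) = 0 := by
      have := congrArg (kernel.ι m ≫ ·) (show biprod.fst ≫ u.hom.app (op p) +
        biprod.snd ≫ Y.obj.map (FilD.stepHom p) = m from biprod.desc_eq.symm)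
      simp only [Preadditive.comp_add, kernel.condition] at this
      simp only [x, y, Category.assoc]
      exact this
    have e : x ≫ u.hom.app (op p) = (-y) ≫ Y.obj.map (FilD.stepHom p) := by
      rw [Preadditive.neg_comp, eq_neg_iff_add_eq_zero]; exact e0
    obtain ⟨B', π, _, x', hx'⟩ := (isStrict_iff u).1 hu p (-y) x e
    have := mono_app u (op p)
    have e2 : π ≫ x = x' ≫ X.obj.map (FilD.stepHom p) := by
      rw [← cancel_mono (u.hom.app (op p)), Category.assoc, e, Category.assoc, u.hom.naturality,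
        reassoc_of% hx']
    rw [← cancel_epi π, comp_zero,
      show h = biprod.fst ≫ f.hom.app (op p) + biprod.snd ≫ g' ≫ I.obj.map (FilD.stepHom p) from
        biprod.desc_eq, Preadditive.comp_add, Preadditive.comp_add, ← Category.assoc (kernel.ι m),
      ← Category.assoc (kernel.ι m) biprod.snd]
    change π ≫ x ≫ f.hom.app (op p) + π ≫ y ≫ g' ≫ I.obj.map (FilD.stepHom p) = 0
    rw [reassoc_of% e2, f.hom.naturality, ← hg', Category.assoc, ← reassoc_of% hx']
    simp
  let h' := cokernel.desc (kernel.ι m) h hk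
  let g := Injective.factorThru h' (Abelian.factorThruCoimage m)
  have hg : m ≫ g = h := by
    have e1 : Abelian.coimage.π m ≫ Abelian.factorThruCoimage m = m := Abelian.coimage.fac m
    rw [← e1, Category.assoc, Injective.comp_factorThru]
    exact cokernel.π_desc _ _ _
  exact ⟨g, by simpa [m, h] using congrArg (biprod.inl ≫ ·) hg,
    by simpa [m, h] using congrArg (biprod.inr ≫ ·) hg⟩

lemma exists_extension (hu : FilD.IsStrict u) (hI : FilD.IsFilteredInjective I) :
    ∃ g : Y ⟶ I, u ≫ g = f := by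
  obtain ⟨bX, hbX⟩ := X.property.2.1
  obtain ⟨bY, hbY⟩ := Y.property.2.1
  obtain ⟨aX, haX⟩ := X.property.2.2
  obtain ⟨aY, haY⟩ := Y.property.2.2
  obtain ⟨aI, haI⟩ := I.property.2.2
  let b := max bX bY
  let a := min aX (min aY aI)
  have key : ∀ n : ℕ, ∃ g : ∀ p : ℤ, Y.obj.obj (op p) ⟶ I.obj.obj (op p), ∀ p, b - n ≤ p →
      u.hom.app (op p) ≫ g p = f.hom.app (op p) ∧
      Y.obj.map (FilD.stepHom p) ≫ g p = g (p + 1) ≫ I.obj.map (FilD.stepHom p) := by
    intro n
    induction n with
    | zero => exact ⟨fun _ => 0, fun p hp => ⟨(hbX p (by lia)).eq_of_src _ _, by simp⟩⟩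
    | succ n ih =>
      obtain ⟨g, hg⟩ := ih
      have := injective_level hI (b - n - 1)
      obtain ⟨g₀, h₁, h₂⟩ := extend_step u f hu (b - n - 1) (g (b - n - 1 + 1))
        (hg _ (by lia)).1
      refine ⟨Function.update g (b - n - 1) g₀, fun p hp => ?_⟩
      have hne : p + 1 ≠ b - n - 1 := by lia
      rw [Function.update_of_ne hne]
      by_cases hp' : p = b - n - 1
      · subst hp'
        rw [Function.update_self]
        exact ⟨h₁, h₂⟩
      · rw [Function.update_of_ne hp']
        exact hg p (by lia)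
  obtain ⟨g, hg⟩ := key (b - a).toNat
  have isoY : ∀ (p : ℤ) (hp : p ≤ a), IsIso (Y.obj.map (homOfLE hp).op) := fun p hp =>
    haY _ (by show a ≤ aY; lia)
  have isoX : ∀ (p : ℤ) (hp : p ≤ a), IsIso (X.obj.map (homOfLE hp).op) := fun p hp =>
    haX _ (by show a ≤ aX; lia)
  let G : ∀ p : ℤ, Y.obj.obj (op p) ⟶ I.obj.obj (op p) := fun p =>
    if hp : p ≤ a then
      (have := isoY p hp; inv (Y.obj.map (homOfLE hp).op)) ≫ g a ≫ I.obj.map (homOfLE hp).op
    else g p
  have hGa : ∀ (p : ℤ) (hp : p ≤ a),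
      Y.obj.map (homOfLE hp).op ≫ G p = g a ≫ I.obj.map (homOfLE hp).op := fun p hp => by
    have := isoY p hp
    simp only [G, dif_pos hp, IsIso.hom_inv_id_assoc]
  have hGge : ∀ p, a ≤ p → G p = g p := fun p hp => by
    by_cases h : p ≤ a
    · obtain rfl : a = p := le_antisymm hp h
      have := hGa a h
      rwa [show (homOfLE h).op = 𝟙 _ from rfl, CategoryTheory.Functor.map_id,
        CategoryTheory.Functor.map_id, Category.id_comp, Category.comp_id] at this
    · simp only [G, dif_neg h]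
  refine ⟨ObjectProperty.homMk (homOfSteps _ _ G fun p => ?_), ?_⟩
  · by_cases hp : p + 1 ≤ a
    · have := isoY (p + 1) hp
      have e : (homOfLE hp).op ≫ FilD.stepHom p = (homOfLE (show p ≤ a by lia)).op := rfl
      rw [← cancel_epi (Y.obj.map (homOfLE hp).op), reassoc_of% (hGa (p + 1) hp),
        ← Functor.map_comp_assoc, ← Functor.map_comp, e]
      exact hGa p (by lia)
    · rw [hGge p (by lia), hGge (p + 1) (by lia)]
      exact (hg p (by lia)).2
  · ext1
    refine NatTrans.ext (funext fun x => ?_)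
    obtain ⟨p⟩ := x
    show u.hom.app (op p) ≫ G p = f.hom.app (op p)
    by_cases hp : p ≤ a
    · have := isoX p hp
      rw [← cancel_epi (X.obj.map (homOfLE hp).op), u.hom.naturality_assoc, hGa, ← Category.assoc,
        (hg a (by lia)).1, f.hom.naturality]
    · rw [hGge p (by lia)]
      exact (hg p (by lia)).1

end Extension

section Cofree

open scoped Classical in
noncomputable local instance (K : Type) [Finite K] (f : K → A) : HasBiproduct f :=
  have : HasFiniteBiproducts A := Abelian.hasFiniteBiproducts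
  have : HasBiproductsOfShape K A := hasBiproductsOfShape_finite A
  HasBiproductsOfShape.has_biproduct f

variable (a : ℤ) {n : ℕ} (J : Fin n → A)

/-- The index set in level `p`. -/
abbrev CIdx (n : ℕ) (a p : ℤ) : Type := {k : Fin n // p ≤ a + (k : ℕ)}

open Classical in
/-- The functor with graded piece `J k` in degree `a + k`. -/
noncomputable def cofree : ℤᵒᵖ ⥤ A where
  obj x := ⨁ fun k : CIdx n a x.unop => J k.1
  map {x y} _ := biproduct.lift fun k =>
    if h : x.unop ≤ a + (k.1 : ℕ) then biproduct.π (fun l : CIdx n a x.unop => J l.1) ⟨k.1, h⟩ else 0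
  map_id x := by
    refine biproduct.hom_ext _ _ fun k => ?_
    rw [biproduct.lift_π, dif_pos k.2, Category.id_comp]
  map_comp {x y z} f g := by
    refine biproduct.hom_ext _ _ fun k => ?_
    rw [biproduct.lift_π, Category.assoc, biproduct.lift_π]
    by_cases hy : y.unop ≤ a + (k.1 : ℕ)
    · rw [dif_pos hy, biproduct.lift_π]
    · rw [dif_neg hy, comp_zero, dif_neg]
      exact fun h => hy ((leOfHom f.unop).trans h)

variable {J}

lemma cofree_map_π {x y : ℤᵒᵖ} (f : x ⟶ y) (k : CIdx n a y.unop) (h : x.unop ≤ a + (k.1 : ℕ)) :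
    (cofree a J).map f ≫ biproduct.π (fun l : CIdx n a y.unop => J l.1) k =
      biproduct.π (fun l : CIdx n a x.unop => J l.1) ⟨k.1, h⟩ := by
  show biproduct.lift _ ≫ _ = _
  rw [biproduct.lift_π, dif_pos h]

lemma cofree_map_π_zero {x y : ℤᵒᵖ} (f : x ⟶ y) (k : CIdx n a y.unop)
    (h : ¬ x.unop ≤ a + (k.1 : ℕ)) :
    (cofree a J).map f ≫ biproduct.π (fun l : CIdx n a y.unop => J l.1) k = 0 := by
  show biproduct.lift _ ≫ _ = _
  rw [biproduct.lift_π, dif_neg h]
  rfl

lemma cofree_retraction {x y : ℤᵒᵖ} (f : x ⟶ y) :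
    (cofree a J).map f ≫ biproduct.lift (fun k : CIdx n a x.unop =>
      biproduct.π (fun l : CIdx n a y.unop => J l.1) ⟨k.1, (leOfHom f.unop).trans k.2⟩) = 𝟙 _ := by
  refine biproduct.hom_ext _ _ fun k => ?_
  rw [Category.assoc, biproduct.lift_π]
  exact (cofree_map_π a f _ k.2).trans (Category.id_comp _).symm

lemma isSplitMono_cofree_map {x y : ℤᵒᵖ} (f : x ⟶ y) : IsSplitMono ((cofree a J).map f) :=
  ⟨⟨{ retraction := _, id := cofree_retraction a f }⟩⟩

lemma isFinFil_cofree : FilD.IsFinFil A (cofree a J) := by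
  refine ⟨fun x y f => (have := isSplitMono_cofree_map (J := J) a f; inferInstance),
    ⟨a + n + 1, fun p hp => ?_⟩, ⟨a, fun x y f hx => ?_⟩⟩
  · rw [IsZero.iff_id_eq_zero]
    refine biproduct.hom_ext _ _ fun k => ?_
    obtain ⟨⟨kv, h2⟩, h1⟩ := k
    exfalso
    simp at h1
    lia
  · have := isSplitMono_cofree_map (J := J) a f
    refine ⟨_, cofree_retraction a f, ?_⟩
    refine biproduct.hom_ext _ _ fun k => ?_
    refine (Category.assoc _ _ _).trans ?_
    refine (congrArg (_ ≫ ·) (cofree_map_π a f k (hx.trans (by lia)))).trans ?_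
    exact (biproduct.lift_π _ _).trans (Category.id_comp _).symm

end Cofree

end Groth.Agent.FilLib
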