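import Groth.Agent.FilLib.Homotopy
import Mathlib.CategoryTheory.Triangulated.Pretriangulated

/-! Precomposition with filtered quasi-isomorphisms. -/

universe v u

open CategoryTheory CategoryTheory.Limits Opposite Pretriangulated

namespace Groth.Agent.FilLib

variable {A : Type u} [Category.{v} A] [Abelian A]

local notation "qt" => HomotopyCategory.quotient (FilD.FilF A) (ComplexShape.up ℤ)

lemma isFilteredAcyclic_mappingCone {K L : CochainComplex (FilD.FilF A) ℤ} (α : K ⟶ L)
    (hα : FilD.IsFilteredQuasiIso α) :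
    FilD.IsFilteredAcyclic (CochainComplex.mappingCone α) := by
  intro p n
  have h1 : (CochainComplex.mappingCone ((FilD.grCx p).map α)).Acyclic := by
    rw [← HomotopyCategory.quotient_obj_mem_subcategoryAcyclic_iff_acyclic]
    refine ((HomotopyCategory.subcategoryAcyclic A).trW_iff_of_distinguished _
      (HomotopyCategory.mappingCone_triangleh_distinguished _)).1 ?_
    rw [← HomotopyCategory.quasiIso_eq_trW_subcategoryAcyclic]
    exact (HomotopyCategory.quotient_map_mem_quasiIso_iff _).2 (hα p)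
  exact (h1 n).of_iso (CochainComplex.mappingCone.mapHomologicalComplexIso α (FilD.grF A p)).symm

lemma precomp_bijective (I : CochainComplex (FilD.FilF A) ℤ) (a : ℤ) [I.IsStrictlyGE a]
    (hI : ∀ n, FilD.IsFilteredInjective (I.X n)) {K L : CochainComplex (FilD.FilF A) ℤ}
    (α : K ⟶ L) (hα : FilD.IsFilteredQuasiIso α) :
    Function.Bijective (fun β : (qt).obj L ⟶ (qt).obj I => (qt).map α ≫ β) := by
  have hC := isFilteredAcyclic_mappingCone α hα
  have hT : CochainComplex.mappingCone.triangleh α ∈ distTriang _ :=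
    HomotopyCategory.mappingCone_triangleh_distinguished α
  have hzero : ∀ (J : CochainComplex (FilD.FilF A) ℤ) (b : ℤ) [J.IsStrictlyGE b],
      (∀ n, FilD.IsFilteredInjective (J.X n)) →
      ∀ f : (qt).obj (CochainComplex.mappingCone α) ⟶ (qt).obj J, f = 0 := by
    intro J b _ hJ f
    obtain ⟨g, rfl⟩ := (qt).map_surjective f
    obtain ⟨h⟩ := nullHomotopic _ J hC b hJ g
    rw [HomotopyCategory.eq_of_homotopy _ _ h, Functor.map_zero]
  have hI1 : ∀ n, FilD.IsFilteredInjective ((I⟦(1 : ℤ)⟧).X n) := fun n => hI (n + 1)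
  have : (I⟦(1 : ℤ)⟧).IsStrictlyGE (a - 1) := I.isStrictlyGE_shift a 1 (a - 1) (by lia)
  constructor
  · intro β β' h
    rw [← sub_eq_zero]
    have h0 : (qt).map α ≫ (β - β') = 0 := by rw [Preadditive.comp_sub]; exact sub_eq_zero.2 h
    obtain ⟨g, hg⟩ := Triangle.yoneda_exact₂ _ hT (β - β') h0
    rw [hg, hzero I a hI g]
    exact comp_zero
  · intro γ
    let δ : (qt).obj (CochainComplex.mappingCone α) ⟶ ((qt).obj K)⟦(1 : ℤ)⟧ :=
      (CochainComplex.mappingCone.triangleh α).mor₃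
    have h0 : δ ≫ γ⟦(1 : ℤ)⟧' = 0 := by
      rw [← cancel_mono (((qt).commShiftIso (1 : ℤ)).inv.app I), zero_comp]
      exact hzero (I⟦(1 : ℤ)⟧) (a - 1) hI1 _
    obtain ⟨g, hg⟩ := Triangle.yoneda_exact₃ _ (rot_of_distTriang _ hT) (γ⟦(1 : ℤ)⟧') h0
    suffices key : ∀ β : (qt).obj L ⟶ (qt).obj I,
        γ⟦(1 : ℤ)⟧' = (-((qt).map α)⟦(1 : ℤ)⟧') ≫ β⟦(1 : ℤ)⟧' →
        ∃ β, (qt).map α ≫ β = γ by
      obtain ⟨β, rfl⟩ := (shiftFunctor _ (1 : ℤ)).map_surjective g
      exact key β hg
    intro β hβ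
    refine ⟨-β, (shiftFunctor _ (1 : ℤ)).map_injective ?_⟩
    rw [hβ, Functor.map_comp, Functor.map_neg, Preadditive.comp_neg, Preadditive.neg_comp]

end Groth.Agent.FilLib
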