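import Groth.Agent.FilLib.Cat
import Groth.Agent.FilLib.Embed
import Mathlib.Algebra.Homology.HomotopyCategory.MappingCone
import Mathlib.Algebra.Homology.HomotopyCategory.Triangulated
import Mathlib.Algebra.Homology.DerivedCategory.Basic
import Mathlib.Algebra.Homology.Embedding.CochainComplex

/-! Filtered injective resolutions of bounded below filtered complexes. -/

universe v u

open CategoryTheory CategoryTheory.Limits Opposite ZeroObject

namespace Groth.Agent.FilLib

variable {A : Type u} [Category.{v} A] [Abelian A]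

lemma strict_of_isZero {F G : FilD.FilF A} (φ : F ⟶ G) (h : IsZero F) : FilD.IsStrict φ := by
  refine (isStrict_iff φ).2 fun p B y x e => ⟨B, 𝟙 B, inferInstance, 0, ?_⟩
  have := mono_map G (FilD.stepHom p)
  rw [zero_comp, Category.id_comp, ← cancel_mono (G.obj.map (FilD.stepHom p)), zero_comp, ← e,
    show φ = 0 from h.eq_of_src _ _]
  exact comp_zero

section Stage

variable (K : CochainComplex (FilD.FilF A) ℤ)

/-- One step of the resolution. -/
structure Stage (n : ℤ) where
  P : FilD.FilF A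
  I : FilD.FilF A
  g : P ⟶ K.X n ⊞ I
  strict : FilD.IsStrict g
  w : ∀ l, g ≫ biprod.fst ≫ K.d n l = 0

variable {K} {n : ℤ} (S : Stage K n)

noncomputable def Stage.Q : FilD.FilF A := ⟨cokernel S.g.hom, isFinFil_cokernel S.g S.strict⟩

noncomputable def Stage.π : K.X n ⊞ S.I ⟶ S.Q := ObjectProperty.homMk (cokernel.π S.g.hom)

lemma Stage.g_π : S.g ≫ S.π = 0 := by ext1; exact cokernel.condition _

lemma Stage.app_g_π (x : ℤᵒᵖ) : S.g.hom.app x ≫ S.π.hom.app x = 0 :=
  NatTrans.congr_app (cokernel.condition S.g.hom) x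

lemma Stage.exact_π (x : ℤᵒᵖ) :
    (ShortComplex.mk (S.g.hom.app x) (S.π.hom.app x) (S.app_g_π x)).Exact :=
  (ShortComplex.exact_of_g_is_cokernel (ShortComplex.mk _ _ (cokernel.condition S.g.hom))
    (cokernelIsCokernel S.g.hom)).map ((evaluation ℤᵒᵖ A).obj x)

variable [EnoughInjectives A]

noncomputable def Stage.E : FilD.FilF A := (exists_embedding S.Q).choose

noncomputable def Stage.e : S.Q ⟶ S.E := (exists_embedding S.Q).choose_spec.choose

lemma Stage.e_spec : FilD.IsFilteredInjective S.E ∧ Mono S.e ∧ FilD.IsStrict S.e :=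
  (exists_embedding S.Q).choose_spec.choose_spec

/-- The next differential of the cone. -/
noncomputable def Stage.g' (m : ℤ) : K.X n ⊞ S.I ⟶ K.X m ⊞ S.E :=
  biprod.lift (-(biprod.fst ≫ K.d n m)) (S.π ≫ S.e)

lemma Stage.g'_fst (m : ℤ) : S.g' m ≫ biprod.fst = -(biprod.fst ≫ K.d n m) := biprod.lift_fst _ _

lemma Stage.g'_snd (m : ℤ) : S.g' m ≫ biprod.snd = S.π ≫ S.e := biprod.lift_snd _ _

lemma Stage.g_g' (m : ℤ) : S.g ≫ S.g' m = 0 := by
  apply biprod.hom_ext
  · rw [Category.assoc, S.g'_fst, Preadditive.comp_neg, S.w, neg_zero, zero_comp]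
  · rw [Category.assoc, S.g'_snd, ← Category.assoc, S.g_π, zero_comp, zero_comp]

lemma Stage.levels (m p : ℤ) {B : A} (x : B ⟶ (K.X n ⊞ S.I).obj.obj (op p))
    (hx : x ≫ (S.g' m).hom.app (op p) = 0) :
    ∃ (B' : A) (q : B' ⟶ B) (_ : Epi q) (z : B' ⟶ S.P.obj.obj (op p)),
      q ≫ x = z ≫ S.g.hom.app (op p) := by
  have := S.e_spec.2.1
  have := mono_app S.e (op p)
  refine refines' _ _ (S.app_g_π _) (S.exact_π (op p)) x ?_
  rw [← cancel_mono (S.e.hom.app (op p)), zero_comp, Category.assoc]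
  have e : (S.g' m).hom.app (op p) ≫ (biprod.snd : K.X m ⊞ S.E ⟶ _).hom.app (op p) =
      S.π.hom.app (op p) ≫ S.e.hom.app (op p) :=
    congrArg (fun ψ => ψ.hom.app (op p)) (S.g'_snd m)
  rw [← e, reassoc_of% hx, zero_comp]

lemma Stage.strict_g' (m : ℤ) : FilD.IsStrict (S.g' m) := by
  rw [isStrict_iff]
  intro p B y x h
  have := mono_map (K.X m ⊞ S.E) (FilD.stepHom p)
  have e : (S.g' m).hom.app (op p) ≫ (biprod.snd : K.X m ⊞ S.E ⟶ _).hom.app (op p) =
      S.π.hom.app (op p) ≫ S.e.hom.app (op p) :=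
    congrArg (fun ψ => ψ.hom.app (op p)) (S.g'_snd m)
  obtain ⟨B1, q1, _, c, hc⟩ := (isStrict_iff S.e).1 S.e_spec.2.2 p
    (y ≫ (biprod.snd : K.X m ⊞ S.E ⟶ _).hom.app (op (p + 1))) (x ≫ S.π.hom.app (op p)) (by
      rw [Category.assoc, ← e, reassoc_of% h, NatTrans.naturality, Category.assoc])
  have : Epi (S.π.hom.app (op (p + 1))) :=
    inferInstanceAs (Epi (((evaluation ℤᵒᵖ A).obj _).map (cokernel.π S.g.hom)))
  obtain ⟨B2, q2, _, x', hx'⟩ := surjective_up_to_refinements_of_epi (S.π.hom.app (op (p + 1))) c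
  have := S.e_spec.2.1
  have := mono_app S.e (op p)
  have h0 : (q2 ≫ q1 ≫ x - x' ≫ (K.X n ⊞ S.I).obj.map (FilD.stepHom p)) ≫ S.π.hom.app (op p) = 0 := by
    rw [← cancel_mono (S.e.hom.app (op p)), zero_comp, Preadditive.sub_comp, Category.assoc x',
      S.π.hom.naturality, ← Category.assoc x', ← hx', Preadditive.sub_comp, sub_eq_zero]
    simp only [Category.assoc]
    rw [← e, reassoc_of% h, NatTrans.naturality, reassoc_of% hc, S.e.hom.naturality]
  obtain ⟨B3, q3, _, z, hz⟩ := refines' _ _ (S.app_g_π _) (S.exact_π (op p)) _ h0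
  refine ⟨B3, q3 ≫ q2 ≫ q1, inferInstance, q3 ≫ x', ?_⟩
  rw [← cancel_mono ((K.X m ⊞ S.E).obj.map (FilD.stepHom p)), Category.assoc, Category.assoc,
    Category.assoc, ← h, Category.assoc, Category.assoc, ← NatTrans.naturality]
  have hzz := congrArg (· ≫ (S.g' m).hom.app (op p)) hz
  simp only [Category.assoc, Preadditive.sub_comp, Preadditive.comp_sub] at hzz
  rw [show S.g.hom.app (op p) ≫ (S.g' m).hom.app (op p) = 0 from
    congrArg (fun ψ => ψ.hom.app (op p)) (S.g_g' m), comp_zero, sub_eq_zero] at hzz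
  exact hzz

noncomputable def Stage.next (m : ℤ) : Stage K m where
  P := K.X n ⊞ S.I
  I := S.E
  g := S.g' m
  strict := S.strict_g' m
  w l := by
    rw [← Category.assoc, S.g'_fst, Preadditive.neg_comp, Category.assoc, K.d_comp_d, comp_zero,
      neg_zero]

end Stage

section Build

variable (K : CochainComplex (FilD.FilF A) ℤ) [EnoughInjectives A]

noncomputable def seq : ∀ k : ℕ, Stage K (Int.ofNat k)
  | 0 =>
    { P := 0
      I := 0
      g := 0
      strict := strict_of_isZero _ (isZero_zero _)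
      w := fun l => zero_comp }
  | k + 1 => (seq k).next (Int.ofNat (k + 1))

noncomputable def resX : ℤ → FilD.FilF A
  | .ofNat k => (seq K k).E
  | .negSucc _ => 0

noncomputable def resd : ∀ n : ℤ, resX K n ⟶ resX K (n + 1)
  | .ofNat k => (biprod.inr : (seq K (k + 1)).I ⟶ _) ≫ (seq K (k + 1)).π ≫ (seq K (k + 1)).e
  | .negSucc _ => 0

lemma seq_rel (k : ℕ) :
    ((seq K k).g' (Int.ofNat (k + 1))) ≫ (seq K (k + 1)).π ≫ (seq K (k + 1)).e = 0 := by
  refine (Category.assoc _ _ _).symm.trans ?_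
  refine (congrArg (· ≫ (seq K (k + 1)).e) (seq K (k + 1)).g_π).trans ?_
  exact zero_comp

lemma resd_sq : ∀ n, resd K n ≫ resd K (n + 1) = 0
  | .ofNat k => by
    show ((biprod.inr : (seq K (k + 1)).I ⟶ _) ≫ (seq K (k + 1)).π ≫ (seq K (k + 1)).e) ≫
      (biprod.inr : (seq K (k + 1)).E ⟶ _) ≫ (seq K (k + 2)).π ≫ (seq K (k + 2)).e = 0
    have h : (biprod.inr : (seq K (k + 1)).I ⟶ _) ≫ (seq K (k + 1)).g' (Int.ofNat (k + 2)) =
        ((biprod.inr : (seq K (k + 1)).I ⟶ _) ≫ (seq K (k + 1)).π ≫ (seq K (k + 1)).e) ≫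
          biprod.inr := by
      apply biprod.hom_ext
      · simp [Stage.g']
      · simp [Stage.g']
    rw [← Category.assoc, ← h, Category.assoc]
    exact (congrArg (_ ≫ ·) (seq_rel K (k + 1))).trans comp_zero
  | .negSucc _ => zero_comp

noncomputable def res : CochainComplex (FilD.FilF A) ℤ :=
  CochainComplex.of (resX K) (resd K) (resd_sq K)

noncomputable def resMap : ∀ n : ℤ, K.X n ⟶ resX K n
  | .ofNat k => biprod.inl ≫ (seq K k).π ≫ (seq K k).e
  | .negSucc _ => 0

lemma resMap_comm [K.IsStrictlyGE 0] : ∀ n, resMap K n ≫ resd K n = K.d n (n + 1) ≫ resMap K (n + 1)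
  | .ofNat k => by
    show ((biprod.inl : K.X (Int.ofNat k) ⟶ _) ≫ (seq K k).π ≫ (seq K k).e) ≫
      ((biprod.inr : (seq K k).E ⟶ _) ≫ (seq K (k + 1)).π ≫ (seq K (k + 1)).e) =
      K.d (Int.ofNat k) (Int.ofNat (k + 1)) ≫
        (biprod.inl : K.X (Int.ofNat (k + 1)) ⟶ _) ≫ (seq K (k + 1)).π ≫ (seq K (k + 1)).e
    have h : (biprod.inl : K.X (Int.ofNat k) ⟶ _) ≫ (seq K k).g' (Int.ofNat (k + 1)) =
        ((biprod.inl : K.X (Int.ofNat k) ⟶ _) ≫ (seq K k).π ≫ (seq K k).e) ≫ biprod.inr -
          K.d (Int.ofNat k) (Int.ofNat (k + 1)) ≫ biprod.inl := by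
      apply biprod.hom_ext
      · simp [Stage.g']
      · simp [Stage.g']
    have h2 := congrArg (· ≫ (seq K (k + 1)).π ≫ (seq K (k + 1)).e) h
    refine sub_eq_zero.1 ?_
    refine Eq.trans ?_ (h2.symm.trans ?_)
    · exact ((Preadditive.sub_comp _ _ _).trans
        (congrArg₂ (· - ·) (Category.assoc _ _ _) (Category.assoc _ _ _))).symm
    · refine (Category.assoc _ _ _).trans ?_
      exact (congrArg (_ ≫ ·) (seq_rel K k)).trans comp_zero
  | .negSucc i => (K.isZero_of_isStrictlyGE 0 _ (Int.negSucc_lt_zero i)).eq_of_src _ _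

noncomputable def resHom [K.IsStrictlyGE 0] : K ⟶ res K where
  f := resMap K
  comm' i j (h : i + 1 = j) := by
    subst h
    rw [show (res K).d i (i + 1) = resd K i from CochainComplex.of_d _ _ i]
    exact resMap_comm K i

instance res_isStrictlyGE : (res K).IsStrictlyGE 0 := by
  rw [CochainComplex.isStrictlyGE_iff]
  rintro (k | k) h
  · exact absurd h (by simp)
  · exact isZero_zero _

lemma res_injective : ∀ n, FilD.IsFilteredInjective ((res K).X n)
  | .ofNat k => (seq K k).e_spec.1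
  | .negSucc _ => fun p => ((FilD.grF A p).map_isZero (isZero_zero (FilD.FilF A))).injective

end Build

section Cone

variable {K L : CochainComplex (FilD.FilF A) ℤ} (φ : K ⟶ L)

/-- The differential of the cone, with biproducts in the terms. -/
noncomputable def coneD (i j k : ℤ) : K.X j ⊞ L.X i ⟶ K.X k ⊞ L.X j :=
  biprod.lift (-(biprod.fst ≫ K.d j k)) (biprod.desc (φ.f j) (L.d i j))

lemma XIso_snd (i j : ℤ) (hij : i + 1 = j) :
    (HomologicalComplex.homotopyCofiber.XIsoBiprod φ i j hij).hom ≫ biprod.snd =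
      HomologicalComplex.homotopyCofiber.sndX φ i := by
  obtain rfl := (ComplexShape.up ℤ).next_eq' hij
  simp [HomologicalComplex.homotopyCofiber.sndX, dif_pos hij]

lemma coneD_comp (i j k l : ℤ) : coneD φ i j k ≫ coneD φ j k l = 0 := by
  apply biprod.hom_ext
  · simp [coneD]
  · apply biprod.hom_ext'
    · simp [coneD, biprod.inl_desc_assoc]
    · simp [coneD]

lemma isFilteredQuasiIso_of_coneD
    (h : ∀ i j k l : ℤ, i + 1 = j → j + 1 = k → k + 1 = l → FilD.IsStrict (coneD φ j k l) ∧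
      ∀ p : ℤ, ((ShortComplex.mk (coneD φ i j k) (coneD φ j k l) (coneD_comp φ i j k l)).map
        ((FilD.IsFinFil A).ι ⋙ (evaluation ℤᵒᵖ A).obj (op p))).Exact) :
    FilD.IsFilteredQuasiIso φ := by
  intro p
  let C := CochainComplex.mappingCone φ
  let u : ∀ (i j : ℤ), i + 1 = j → (C.X i ≅ K.X j ⊞ L.X i) := fun i j hij =>
    HomologicalComplex.homotopyCofiber.XIsoBiprod φ i j hij
  have hu : ∀ (i j k : ℤ) (hij : i + 1 = j) (hjk : j + 1 = k),
      (u i j hij).hom ≫ coneD φ i j k = C.d i j ≫ (u j k hjk).hom := by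
    intro i j k hij hjk
    apply biprod.hom_ext
    · rw [Category.assoc, Category.assoc, coneD, biprod.lift_fst, Preadditive.comp_neg,
        ← Category.assoc]
      refine Eq.trans ?_ (HomologicalComplex.homotopyCofiber.d_fstX φ i j k hij hjk).symm
      rfl
    · rw [Category.assoc, Category.assoc, coneD, biprod.lift_snd, biprod.desc_eq,
        Preadditive.comp_add]
      refine Eq.trans ?_ ((congrArg (C.d i j ≫ ·) (XIso_snd φ j k hjk)).trans
        (HomologicalComplex.homotopyCofiber.d_sndX φ i j hij)).symm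
      exact congrArg₂ (· + ·) (Category.assoc _ _ _).symm
        ((Category.assoc _ _ _).symm.trans (congrArg (· ≫ L.d i j) (XIso_snd φ i j hij)))
  have hC : ∀ n, ((FilD.grCx p).obj C).ExactAt n := by
    intro n
    rw [HomologicalComplex.exactAt_iff' _ (n - 1) n (n + 1)
      ((ComplexShape.up ℤ).prev_eq' (show n - 1 + 1 = n by lia))
      ((ComplexShape.up ℤ).next_eq' rfl)]
    obtain ⟨hs, hl⟩ := h (n - 1) n (n + 1) (n + 2) (by lia) rfl (by lia)
    have e : C.sc' (n - 1) n (n + 1) ≅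
        ShortComplex.mk (coneD φ (n - 1) n (n + 1)) (coneD φ n (n + 1) (n + 2))
          (coneD_comp φ _ _ _ _) :=
      ShortComplex.isoMk (u (n - 1) n (by lia)) (u n (n + 1) rfl) (u (n + 1) (n + 2) (by lia))
        (hu _ _ _ _ _) (hu _ _ _ _ _)
    exact ShortComplex.exact_of_iso ((FilD.grF A p).mapShortComplex.mapIso e).symm
      (gr_exact_of_levels _ hl hs p)
  have h1 : (CochainComplex.mappingCone ((FilD.grCx p).map φ)).Acyclic := fun n =>
    (hC n).of_iso (CochainComplex.mappingCone.mapHomologicalComplexIso φ (FilD.grF A p))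
  rw [← HomologicalComplex.mem_quasiIso_iff, ← HomotopyCategory.quotient_map_mem_quasiIso_iff,
    HomotopyCategory.quasiIso_eq_trW_subcategoryAcyclic]
  refine ((HomotopyCategory.subcategoryAcyclic A).trW_iff_of_distinguished _
    (HomotopyCategory.mappingCone_triangleh_distinguished _)).2 ?_
  exact (HomotopyCategory.quotient_obj_mem_subcategoryAcyclic_iff_acyclic _).2 h1

end Cone

section Main

variable (K : CochainComplex (FilD.FilF A) ℤ) [EnoughInjectives A] [K.IsStrictlyGE 0]

lemma coneD_resHom_eq (k : ℕ) :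
    coneD (resHom K) (Int.ofNat k) (Int.ofNat (k + 1)) (Int.ofNat (k + 2)) =
      (seq K (k + 1)).g' (Int.ofNat (k + 2)) := by
  apply biprod.hom_ext
  · exact (biprod.lift_fst _ _).trans (biprod.lift_fst _ _).symm
  · refine (biprod.lift_snd _ _).trans (Eq.trans ?_ (biprod.lift_snd _ _).symm)
    apply biprod.hom_ext'
    · exact (biprod.inl_desc _ _)
    · refine (biprod.inr_desc _ _).trans ?_
      exact CochainComplex.of_d (resX K) (resd K) (Int.ofNat k)

lemma coneD_resHom_eq_neg :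
    coneD (resHom K) (Int.negSucc 0) (Int.ofNat 0) (Int.ofNat 1) = (seq K 0).g' (Int.ofNat 1) := by
  apply biprod.hom_ext
  · exact (biprod.lift_fst _ _).trans (biprod.lift_fst _ _).symm
  · refine (biprod.lift_snd _ _).trans (Eq.trans ?_ (biprod.lift_snd _ _).symm)
    apply biprod.hom_ext'
    · exact (biprod.inl_desc _ _)
    · exact (isZero_zero (FilD.FilF A)).eq_of_src _ _

lemma isZero_biprod_neg (i j : ℤ) (hi : i < 0) (hj : j < 0) : IsZero (K.X j ⊞ (res K).X i) := by
  rw [IsZero.iff_id_eq_zero]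
  apply biprod.hom_ext
  · exact (K.isZero_of_isStrictlyGE 0 j hj).eq_of_tgt _ _
  · exact ((res K).isZero_of_isStrictlyGE 0 i hi).eq_of_tgt _ _

theorem resHom_isFilteredQuasiIso : FilD.IsFilteredQuasiIso (resHom K) := by
  refine isFilteredQuasiIso_of_coneD _ ?_
  intro i j k l hij hjk hkl
  subst hij hjk hkl
  rcases i with a | a
  · refine ⟨?_, fun p => ?_⟩
    · show FilD.IsStrict (coneD (resHom K) (Int.ofNat (a + 1)) (Int.ofNat (a + 2)) (Int.ofNat (a + 3)))
      rw [coneD_resHom_eq K (a + 1)]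
      exact (seq K (a + 2)).strict_g' _
    · rw [ShortComplex.exact_iff_exact_up_to_refinements]
      intro B x hx
      have h1 := congrArg (fun ψ => ψ.hom.app (op p)) (coneD_resHom_eq K (a + 1))
      have h2 := congrArg (fun ψ => ψ.hom.app (op p)) (coneD_resHom_eq K a)
      obtain ⟨B', q, hq, z, hz⟩ := (seq K (a + 2)).levels (Int.ofNat (a + 3)) p x
        (((congrArg (x ≫ ·) h1).symm).trans hx)
      exact ⟨B', q, hq, z, hz.trans (congrArg (z ≫ ·) h2).symm⟩
  · rcases a with - | a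
    · refine ⟨?_, fun p => ?_⟩
      · show FilD.IsStrict (coneD (resHom K) (Int.ofNat 0) (Int.ofNat 1) (Int.ofNat 2))
        rw [coneD_resHom_eq K 0]
        exact (seq K 1).strict_g' _
      · rw [ShortComplex.exact_iff_exact_up_to_refinements]
        intro B x hx
        have h1 := congrArg (fun ψ => ψ.hom.app (op p)) (coneD_resHom_eq K 0)
        have h2 := congrArg (fun ψ => ψ.hom.app (op p)) (coneD_resHom_eq_neg K)
        obtain ⟨B', q, hq, z, hz⟩ := (seq K 1).levels (Int.ofNat 2) p x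
          (((congrArg (x ≫ ·) h1).symm).trans hx)
        exact ⟨B', q, hq, z, hz.trans (congrArg (z ≫ ·) h2).symm⟩
    · rcases a with - | a
      · refine ⟨?_, fun p => ?_⟩
        · show FilD.IsStrict (coneD (resHom K) (Int.negSucc 0) (Int.ofNat 0) (Int.ofNat 1))
          rw [coneD_resHom_eq_neg K]
          exact (seq K 0).strict_g' _
        · rw [ShortComplex.exact_iff_exact_up_to_refinements]
          intro B x hx
          have h1 := congrArg (fun ψ => ψ.hom.app (op p)) (coneD_resHom_eq_neg K)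
          obtain ⟨B', q, hq, z, hz⟩ := (seq K 0).levels (Int.ofNat 1) p x
            (((congrArg (x ≫ ·) h1).symm).trans hx)
          refine ⟨B', q, hq, 0, hz.trans ?_⟩
          rw [zero_comp]
          exact comp_zero
      · have hz := isZero_biprod_neg K (Int.negSucc (a + 2) + 1) (Int.negSucc (a + 2) + 1 + 1)
          (by lia) (by lia)
        exact ⟨strict_of_isZero _ hz, fun p => ShortComplex.exact_of_isZero_X₂ _
          (((FilD.IsFinFil A).ι ⋙ (evaluation ℤᵒᵖ A).obj (op p)).map_isZero hz)⟩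

theorem exists_resolution :
    ∃ (I : CochainComplex (FilD.FilF A) ℤ) (φ : K ⟶ I), I.IsStrictlyGE 0 ∧
      (∀ n, FilD.IsFilteredInjective (I.X n)) ∧ FilD.IsFilteredQuasiIso φ :=
  ⟨res K, resHom K, inferInstance, res_injective K, resHom_isFilteredQuasiIso K⟩

end Main

end Groth.Agent.FilLib
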