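import Groth.Agent.FilLib.Resolve
import Mathlib.Algebra.Homology.HomotopyCategory.ShiftSequence
import Mathlib.Algebra.Homology.Homotopy

/-! Filtered injective resolutions by termwise strict monomorphisms. -/

universe v u

open CategoryTheory CategoryTheory.Limits Opposite ZeroObject

namespace Groth.Agent.FilLib

variable {A : Type u} [Category.{v} A] [Abelian A]

lemma strict_of_strict_comp {F G H : FilD.FilF A} (φ : F ⟶ G) (q : G ⟶ H)
    (hm : Mono (φ ≫ q)) (hs : FilD.IsStrict (φ ≫ q)) : FilD.IsStrict φ := by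
  rw [isStrict_iff]
  intro p B y x e
  have := mono_map G (FilD.stepHom p)
  obtain ⟨B', π, hπ, x', hx'⟩ := (isStrict_iff (φ ≫ q)).1 hs p (y ≫ q.hom.app (op (p + 1))) x (by
    show x ≫ φ.hom.app (op p) ≫ q.hom.app (op p) = _
    rw [reassoc_of% e, q.hom.naturality, Category.assoc])
  refine ⟨B', π, hπ, x', ?_⟩
  have := mono_app (φ ≫ q) (op p)
  have hx : π ≫ x = x' ≫ F.obj.map (FilD.stepHom p) := by
    rw [← cancel_mono ((φ ≫ q).hom.app (op p))]
    show (π ≫ x) ≫ φ.hom.app (op p) ≫ q.hom.app (op p) = _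
    rw [Category.assoc, reassoc_of% e, q.hom.naturality, Category.assoc,
      (φ ≫ q).hom.naturality, reassoc_of% hx']
  rw [← cancel_mono (G.obj.map (FilD.stepHom p)), Category.assoc, ← e, reassoc_of% hx,
    φ.hom.naturality, Category.assoc]

lemma strict_iso_comp {F G H : FilD.FilF A} (i : F ≅ G) (φ : G ⟶ H) (hs : FilD.IsStrict φ) :
    FilD.IsStrict (i.hom ≫ φ) := by
  rw [isStrict_iff]
  intro p B y x e
  obtain ⟨B', π, hπ, x', hx'⟩ := (isStrict_iff φ).1 hs p y (x ≫ i.hom.hom.app (op p))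
    ((Category.assoc _ _ _).trans e)
  refine ⟨B', π, hπ, x' ≫ i.inv.hom.app (op (p + 1)), hx'.trans ?_⟩
  have h : i.inv.hom.app (op (p + 1)) ≫ i.hom.hom.app (op (p + 1)) = 𝟙 _ :=
    congrArg (fun ψ => ψ.hom.app (op (p + 1))) i.inv_hom_id
  show _ = (x' ≫ _) ≫ i.hom.hom.app _ ≫ φ.hom.app _
  rw [Category.assoc, reassoc_of% h]

lemma isFilteredInjective_biprod {F G : FilD.FilF A} (hF : FilD.IsFilteredInjective F)
    (hG : FilD.IsFilteredInjective G) : FilD.IsFilteredInjective (F ⊞ G) := by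
  intro p
  have := hF p
  have := hG p
  refine ⟨fun g m _ => ⟨Injective.factorThru (g ≫ (FilD.grF A p).map biprod.fst) m ≫
      (FilD.grF A p).map biprod.inl +
    Injective.factorThru (g ≫ (FilD.grF A p).map biprod.snd) m ≫
      (FilD.grF A p).map biprod.inr, ?_⟩⟩
  rw [Preadditive.comp_add, Injective.comp_factorThru_assoc, Injective.comp_factorThru_assoc,
    Category.assoc, Category.assoc, ← Preadditive.comp_add, ← Functor.map_comp, ← Functor.map_comp,
    ← Functor.map_add, biprod.total, CategoryTheory.Functor.map_id, Category.comp_id]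

variable [EnoughInjectives A] (K : CochainComplex (FilD.FilF A) ℤ)

lemma exists_embedding' (X : FilD.FilF A) : ∃ (I : FilD.FilF A) (u : X ⟶ I),
    FilD.IsFilteredInjective I ∧ Mono u ∧ FilD.IsStrict u ∧ (IsZero X → IsZero I) := by
  by_cases h : IsZero X
  · exact ⟨X, 𝟙 X, fun p => ((FilD.grF A p).map_isZero h).injective, inferInstance,
      strict_of_isZero _ h, fun h => h⟩
  · obtain ⟨I, u, h1, h2, h3⟩ := exists_embedding X
    exact ⟨I, u, h1, h2, h3, fun h' => absurd h' h⟩

noncomputable def embX (n : ℤ) : FilD.FilF A := (exists_embedding' (K.X n)).choose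

noncomputable def emb (n : ℤ) : K.X n ⟶ embX K n := (exists_embedding' (K.X n)).choose_spec.choose

lemma emb_spec (n : ℤ) : FilD.IsFilteredInjective (embX K n) ∧ Mono (emb K n) ∧
    FilD.IsStrict (emb K n) ∧ (IsZero (K.X n) → IsZero (embX K n)) :=
  (exists_embedding' (K.X n)).choose_spec.choose_spec

/-- A contractible complex of injectives receiving `K`. -/
noncomputable def discs : CochainComplex (FilD.FilF A) ℤ :=
  CochainComplex.of (fun n => embX K n ⊞ embX K (n + 1)) (fun n => biprod.snd ≫ biprod.inl)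
    (fun n => by simp)

lemma discs_d (n : ℤ) : (discs K).d n (n + 1) = biprod.snd ≫ biprod.inl :=
  CochainComplex.of_d (fun n => embX K n ⊞ embX K (n + 1)) (fun n => biprod.snd ≫ biprod.inl) n

noncomputable def toDiscs : K ⟶ discs K where
  f n := biprod.lift (emb K n) (K.d n (n + 1) ≫ emb K (n + 1))
  comm' i j (h : i + 1 = j) := by
    subst h
    rw [discs_d]
    show (biprod.lift (emb K i) (K.d i (i + 1) ≫ emb K (i + 1)) : K.X i ⟶ embX K i ⊞ embX K (i + 1)) ≫
        biprod.snd ≫ (biprod.inl : embX K (i + 1) ⟶ embX K (i + 1) ⊞ embX K (i + 1 + 1)) =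
      K.d i (i + 1) ≫ biprod.lift (emb K (i + 1)) (K.d (i + 1) (i + 1 + 1) ≫ emb K (i + 1 + 1))
    apply biprod.hom_ext <;> simp

noncomputable def discsHomotopy : Homotopy (𝟙 (discs K)) 0 where
  hom i j := if h : j + 1 = i then eqToHom (congrArg (discs K).X h.symm) ≫ (biprod.fst : (discs K).X (j + 1) ⟶ _) ≫
    (biprod.inr : embX K (j + 1) ⟶ embX K j ⊞ embX K (j + 1)) else 0
  zero i j h := dif_neg h
  comm n := by
    obtain ⟨m, rfl⟩ : ∃ m, n = m + 1 := ⟨n - 1, by lia⟩
    rw [dNext_eq _ (show (ComplexShape.up ℤ).Rel (m + 1) (m + 1 + 1) from rfl),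
      prevD_eq _ (show (ComplexShape.up ℤ).Rel m (m + 1) from rfl)]
    rw [dif_pos rfl, dif_pos rfl, discs_d, discs_d, HomologicalComplex.zero_f, add_zero,
      HomologicalComplex.id_f]
    show 𝟙 (embX K (m + 1) ⊞ embX K (m + 1 + 1)) =
      (biprod.snd ≫ biprod.inl) ≫ 𝟙 _ ≫ biprod.fst ≫ biprod.inr +
        (𝟙 _ ≫ (biprod.fst : embX K (m + 1) ⊞ embX K (m + 1 + 1) ⟶ _) ≫ biprod.inr) ≫
          biprod.snd ≫ biprod.inl
    simp only [Category.assoc, Category.id_comp, biprod.inr_snd_assoc, biprod.inl_fst_assoc]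
    exact (biprod.total.symm.trans (add_comm _ _))

lemma discs_isStrictlyGE [K.IsStrictlyGE 0] : (discs K).IsStrictlyGE (-1) := by
  rw [CochainComplex.isStrictlyGE_iff]
  intro i hi
  have h1 := (emb_spec K i).2.2.2 (K.isZero_of_isStrictlyGE 0 i (by lia))
  have h2 := (emb_spec K (i + 1)).2.2.2 (K.isZero_of_isStrictlyGE 0 _ (by lia))
  show IsZero (embX K i ⊞ embX K (i + 1))
  rw [IsZero.iff_id_eq_zero]
  exact biprod.hom_ext _ _ (h1.eq_of_tgt _ _) (h2.eq_of_tgt _ _)

section Sum

variable (I J : CochainComplex (FilD.FilF A) ℤ)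

omit [EnoughInjectives A] in
/-- The termwise biproduct. -/
noncomputable def sumCx : CochainComplex (FilD.FilF A) ℤ where
  X n := I.X n ⊞ J.X n
  d i j := biprod.map (I.d i j) (J.d i j)
  shape i j h := by
    rw [I.shape i j h, J.shape i j h]
    apply biprod.hom_ext <;> simp
  d_comp_d' i j k _ _ := by apply biprod.hom_ext <;> simp

omit [EnoughInjectives A] in
noncomputable def sumEquiv (hJ : Homotopy (𝟙 J) 0) : HomotopyEquiv (sumCx I J) I where
  hom := { f := fun _ => biprod.fst, comm' := fun _ _ _ => (biprod.map_fst _ _).symm }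
  inv := { f := fun _ => biprod.inl, comm' := fun _ _ _ => (biprod.inl_map _ _) }
  homotopyHomInvId :=
    { hom := fun i j => -(biprod.snd ≫ hJ.hom i j ≫ (biprod.inr : J.X j ⟶ (sumCx I J).X j))
      zero := fun i j h => by rw [hJ.zero i j h, zero_comp, comp_zero, neg_zero]; rfl
      comm := fun n => by
        rw [dNext_eq _ (show (ComplexShape.up ℤ).Rel n (n + 1) from rfl),
          prevD_eq _ (show (ComplexShape.up ℤ).Rel (n - 1) n from by simp)]
        have h := hJ.comm n
        rw [dNext_eq _ (show (ComplexShape.up ℤ).Rel n (n + 1) from rfl),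
          prevD_eq _ (show (ComplexShape.up ℤ).Rel (n - 1) n from by simp),
          HomologicalComplex.zero_f, add_zero, HomologicalComplex.id_f] at h
        show (biprod.fst : I.X n ⊞ J.X n ⟶ _) ≫ (biprod.inl : I.X n ⟶ I.X n ⊞ J.X n) =
          biprod.map (I.d n (n + 1)) (J.d n (n + 1)) ≫ (-(biprod.snd ≫ hJ.hom (n + 1) n ≫ (biprod.inr : J.X n ⟶ I.X n ⊞ J.X n))) +
            (-((biprod.snd : I.X n ⊞ J.X n ⟶ _) ≫ hJ.hom n (n - 1) ≫ (biprod.inr : J.X (n - 1) ⟶ I.X (n - 1) ⊞ J.X (n - 1)))) ≫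
              biprod.map (I.d (n - 1) n) (J.d (n - 1) n) + 𝟙 (I.X n ⊞ J.X n)
        have h' : (biprod.snd : I.X n ⊞ J.X n ⟶ _) ≫ (biprod.inr : J.X n ⟶ I.X n ⊞ J.X n) =
            biprod.snd ≫ (J.d n (n + 1) ≫ hJ.hom (n + 1) n + hJ.hom n (n - 1) ≫ J.d (n - 1) n) ≫
              biprod.inr := by rw [← h, Category.id_comp]
        conv_rhs => rw [← biprod.total, h']
        simp only [Preadditive.comp_neg, Preadditive.neg_comp, Category.assoc, biprod.map_snd_assoc,
          biprod.inr_map, Preadditive.add_comp, Preadditive.comp_add]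
        abel }
  homotopyInvHomId := Homotopy.ofEq (by ext n : 1; exact biprod.inl_fst)

end Sum

omit [EnoughInjectives A] in
lemma isFilteredQuasiIso_shift {K L : CochainComplex (FilD.FilF A) ℤ} (φ : K ⟶ L) (n : ℤ)
    (h : FilD.IsFilteredQuasiIso φ) : FilD.IsFilteredQuasiIso (φ⟦n⟧') := by
  intro p
  let e := (FilD.grF A p).mapCochainComplexShiftIso n
  have := (CochainComplex.quasiIso_shift_iff ((FilD.grCx p).map φ) n).2 (h p)
  exact (quasiIso_iff_of_arrow_mk_iso _ _
    (Arrow.isoMk (e.app K) (e.app L) (e.hom.naturality φ).symm)).2 this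

theorem exists_resolution_mono [K.IsStrictlyGE 0] :
    ∃ (I : CochainComplex (FilD.FilF A) ℤ) (φ : K ⟶ I), I.IsStrictlyGE (-1) ∧
      (∀ n, FilD.IsFilteredInjective (I.X n)) ∧ FilD.IsFilteredQuasiIso φ ∧
      ∀ n, Mono (φ.f n) ∧ FilD.IsStrict (φ.f n) := by
  obtain ⟨I, φ, hI, hinj, hφ⟩ := exists_resolution K
  have := discs_isStrictlyGE K
  let ψ : K ⟶ sumCx I (discs K) :=
    { f := fun n => biprod.lift (φ.f n) ((toDiscs K).f n)
      comm' := fun i j _ => by
        apply biprod.hom_ext <;> simp [sumCx] }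
  refine ⟨sumCx I (discs K), ψ, ?_, ?_, ?_, ?_⟩
  · rw [CochainComplex.isStrictlyGE_iff]
    intro i hi
    show IsZero (I.X i ⊞ (discs K).X i)
    rw [IsZero.iff_id_eq_zero]
    exact biprod.hom_ext _ _ ((I.isZero_of_isStrictlyGE 0 i (by lia)).eq_of_tgt _ _)
      (((discs K).isZero_of_isStrictlyGE (-1) i hi).eq_of_tgt _ _)
  · exact fun n => isFilteredInjective_biprod (hinj n)
      (isFilteredInjective_biprod (emb_spec K n).1 (emb_spec K (n + 1)).1)
  · intro p
    let e := sumEquiv I (discs K) (discsHomotopy K)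
    have : QuasiIso ((FilD.grCx p).map e.hom) :=
      inferInstanceAs (QuasiIso ((FilD.grF A p).mapHomotopyEquiv e).hom)
    have h : (FilD.grCx p).map ψ ≫ (FilD.grCx p).map e.hom = (FilD.grCx p).map φ := by
      rw [← Functor.map_comp]
      congr 1
      ext n : 1
      exact biprod.lift_fst _ _
    exact quasiIso_of_comp_right _ _ (hφ := this) (hφφ' := h.symm ▸ hφ p)
  · intro n
    have h : ψ.f n ≫ (biprod.snd : I.X n ⊞ (discs K).X n ⟶ _) ≫
        (biprod.fst : embX K n ⊞ embX K (n + 1) ⟶ _) = emb K n := by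
      show biprod.lift (φ.f n) ((toDiscs K).f n) ≫ _ = _
      exact (biprod.lift_snd_assoc _ _ _).trans (biprod.lift_fst _ _)
    have := (emb_spec K n).2.1
    exact ⟨mono_of_mono_fac h, strict_of_strict_comp _ _ (h ▸ this) (h ▸ (emb_spec K n).2.2.1)⟩

end Groth.Agent.FilLib
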