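import Groth.Agent.FilLib.ResolveMono
import Groth.Agent.FilLib.Homotopy
import Mathlib.Algebra.Homology.Refinements

/-! Truncations of filtered complexes. -/

universe v u

open CategoryTheory CategoryTheory.Limits Opposite ZeroObject

namespace Groth.Agent.FilLib

variable {A : Type u} [Category.{v} A] [Abelian A]

lemma quasiIso_of_epi {K L : CochainComplex A ℤ} (f : K ⟶ L) [∀ n, Epi (f.f n)]
    (h : ∀ (i n j : ℤ), i + 1 = n → n + 1 = j → ∀ {B : A} (x : B ⟶ K.X n), x ≫ f.f n = 0 →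
      x ≫ K.d n j = 0 → ∃ (B' : A) (π : B' ⟶ B) (_ : Epi π) (w : B' ⟶ K.X i),
        π ≫ x = w ≫ K.d i n ∧ w ≫ f.f i = 0) : QuasiIso f := by
  refine ⟨fun n => ?_⟩
  rw [quasiIsoAt_iff_isIso_homologyMap]
  have hm : Mono (HomologicalComplex.homologyMap f n) := by
    rw [HomologicalComplex.mono_homologyMap_iff_up_to_refinements f (n - 1) n (n + 1)
      ((ComplexShape.up ℤ).prev_eq' (show n - 1 + 1 = n by lia))
      ((ComplexShape.up ℤ).next_eq' rfl)]
    intro B x hx y hy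
    obtain ⟨B1, π1, _, y', hy'⟩ := surjective_up_to_refinements_of_epi (f.f (n - 1)) y
    obtain ⟨B2, π2, _, w, hw, -⟩ := h (n - 1) n (n + 1) (by lia) rfl
      (π1 ≫ x - y' ≫ K.d (n - 1) n) (by
        rw [Preadditive.sub_comp, Category.assoc, Category.assoc, hy, ← f.comm, reassoc_of% hy',
          sub_self])
      (by simp [hx])
    refine ⟨B2, π2 ≫ π1, inferInstance, w + π2 ≫ y', ?_⟩
    rw [Preadditive.add_comp, ← hw]
    simp
  have he : Epi (HomologicalComplex.homologyMap f n) := by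
    rw [HomologicalComplex.epi_homologyMap_iff_up_to_refinements f (n - 1) n (n + 1)
      ((ComplexShape.up ℤ).prev_eq' (show n - 1 + 1 = n by lia))
      ((ComplexShape.up ℤ).next_eq' rfl)]
    intro B z hz
    obtain ⟨B1, π1, _, x, hx⟩ := surjective_up_to_refinements_of_epi (f.f n) z
    obtain ⟨B2, π2, _, w, hw, hw0⟩ := h n (n + 1) (n + 1 + 1) rfl rfl (x ≫ K.d n (n + 1))
      (by rw [Category.assoc, ← f.comm, ← reassoc_of% hx, hz, comp_zero]) (by simp)
    refine ⟨B2, π2 ≫ π1, inferInstance, π2 ≫ x - w, ?_, 0, ?_⟩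
    · rw [Preadditive.sub_comp, Category.assoc, hw, sub_self]
    · rw [Preadditive.sub_comp, hw0, sub_zero, Category.assoc, Category.assoc, hx, zero_comp,
        add_zero]
  exact isIso_of_mono_of_epi _

lemma quasiIso_of_mono {K L : CochainComplex A ℤ} (f : K ⟶ L) [∀ n, Mono (f.f n)]
    (h : ∀ (i n j : ℤ), i + 1 = n → n + 1 = j → ∀ {B : A} (y : B ⟶ L.X n) (x : B ⟶ K.X j),
      y ≫ L.d n j = x ≫ f.f j → ∃ (B' : A) (π : B' ⟶ B) (_ : Epi π) (k : B' ⟶ K.X n)
        (w : B' ⟶ L.X i), π ≫ y = k ≫ f.f n + w ≫ L.d i n) : QuasiIso f := by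
  refine ⟨fun n => ?_⟩
  rw [quasiIsoAt_iff_isIso_homologyMap]
  have hm : Mono (HomologicalComplex.homologyMap f n) := by
    rw [HomologicalComplex.mono_homologyMap_iff_up_to_refinements f (n - 1) n (n + 1)
      ((ComplexShape.up ℤ).prev_eq' (show n - 1 + 1 = n by lia))
      ((ComplexShape.up ℤ).next_eq' rfl)]
    intro B x hx y hy
    obtain ⟨B1, π1, hπ1, k, w, hk⟩ := h (n - 1 - 1) (n - 1) n (by lia) (by lia) y x hy.symm
    refine ⟨B1, π1, hπ1, k, ?_⟩
    rw [← cancel_mono (f.f n), Category.assoc, hy, reassoc_of% hk]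
    simp
  have he : Epi (HomologicalComplex.homologyMap f n) := by
    rw [HomologicalComplex.epi_homologyMap_iff_up_to_refinements f (n - 1) n (n + 1)
      ((ComplexShape.up ℤ).prev_eq' (show n - 1 + 1 = n by lia))
      ((ComplexShape.up ℤ).next_eq' rfl)]
    intro B z hz
    obtain ⟨B1, π1, hπ1, k, w, hk⟩ := h (n - 1) n (n + 1) (by lia) rfl z 0 (by
      rw [hz, zero_comp])
    refine ⟨B1, π1, hπ1, k, ?_, w, hk⟩
    rw [← cancel_mono (f.f (n + 1)), zero_comp, Category.assoc, ← f.comm]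
    have e : π1 ≫ z ≫ L.d n (n + 1) = k ≫ f.f n ≫ L.d n (n + 1) := by
      rw [reassoc_of% hk]
      simp
    rw [← e, hz, comp_zero]
  exact isIso_of_mono_of_epi _

lemma gr_mono_of_levels {F G : FilD.FilF A} (φ : F ⟶ G) (hm : ∀ x, Mono (φ.hom.app x))
    (hs : FilD.IsStrict φ) (p : ℤ) : Mono ((FilD.grF A p).map φ) :=
  have := mono_of_mono_app φ hm
  mono_gr_map φ hs p

lemma gr_epi_of_levels {F G : FilD.FilF A} (φ : F ⟶ G) (he : ∀ x, Epi (φ.hom.app x)) (p : ℤ) :
    Epi ((FilD.gr A p).map φ.hom) :=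
  have := he (op p)
  have : Epi (proj F.obj p ≫ (FilD.gr A p).map φ.hom) :=
    proj_naturality φ.hom p ▸ epi_comp _ _
  epi_of_epi (proj F.obj p) _

section Low

variable (K : CochainComplex (FilD.FilF A) ℤ) (hK : ∀ p n : ℤ, n < 0 → ((FilD.grCx p).obj K).ExactAt n)

include hK

lemma strict_d_neg : FilD.IsStrict (K.d (-1) 0) := by
  refine strict_of_gr_exact_right (K.d (-1) 0) (K.d (-2) (-1)).hom
    (congrArg (fun ψ => ψ.hom) (K.d_comp_d (-2) (-1) 0)) fun p => ?_
  exact (HomologicalComplex.exactAt_iff' _ (-2) (-1) 0 ((ComplexShape.up ℤ).prev_eq' (by simp))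
    ((ComplexShape.up ℤ).next_eq' (by simp))).1 (hK p (-1) (by lia))

noncomputable def lowQ : FilD.FilF A :=
  ⟨cokernel (K.d (-1) 0).hom, isFinFil_cokernel _ (strict_d_neg K hK)⟩

noncomputable def lowπ : K.X 0 ⟶ lowQ K hK := ObjectProperty.homMk (cokernel.π (K.d (-1) 0).hom)

noncomputable def lowDesc : lowQ K hK ⟶ K.X (Int.ofNat 1) :=
  ObjectProperty.homMk (cokernel.desc _ (K.d 0 (Int.ofNat 1)).hom
    (congrArg (fun ψ => ψ.hom) (K.d_comp_d (-1) 0 (Int.ofNat 1))))

lemma lowπ_desc : lowπ K hK ≫ lowDesc K hK = K.d (Int.ofNat 0) (Int.ofNat 1) := by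
  ext1
  exact cokernel.π_desc _ _ _

lemma epi_lowπ : Epi (lowπ K hK) := ⟨fun φ ψ e => by
  ext1
  exact (cancel_epi (cokernel.π (K.d (-1) 0).hom)).1 (congrArg (fun η => η.hom) e)⟩

noncomputable def lowX : ℤ → FilD.FilF A
  | .ofNat 0 => lowQ K hK
  | .ofNat (k + 1) => K.X (Int.ofNat (k + 1))
  | .negSucc _ => 0

noncomputable def lowd : ∀ n, lowX K hK n ⟶ lowX K hK (n + 1)
  | .ofNat 0 => lowDesc K hK
  | .ofNat (k + 1) => K.d (Int.ofNat (k + 1)) (Int.ofNat (k + 2))
  | .negSucc _ => 0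

lemma lowd_sq : ∀ n, lowd K hK n ≫ lowd K hK (n + 1) = 0
  | .ofNat 0 => by
    have := epi_lowπ K hK
    show lowDesc K hK ≫ K.d (Int.ofNat 1) (Int.ofNat 2) = 0
    rw [← cancel_epi (lowπ K hK), comp_zero, ← Category.assoc, lowπ_desc, K.d_comp_d]
  | .ofNat (k + 1) => K.d_comp_d _ _ _
  | .negSucc _ => zero_comp

noncomputable def lowCx : CochainComplex (FilD.FilF A) ℤ :=
  CochainComplex.of (lowX K hK) (lowd K hK) (lowd_sq K hK)

noncomputable def lowf : ∀ n, K.X n ⟶ lowX K hK n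
  | .ofNat 0 => lowπ K hK
  | .ofNat (_ + 1) => 𝟙 _
  | .negSucc _ => 0

lemma lowf_comm : ∀ n, lowf K hK n ≫ lowd K hK n = K.d n (n + 1) ≫ lowf K hK (n + 1)
  | .ofNat 0 => by
    show lowπ K hK ≫ lowDesc K hK = K.d (Int.ofNat 0) (Int.ofNat 1) ≫ 𝟙 _
    rw [Category.comp_id, lowπ_desc]
  | .ofNat (k + 1) => (Category.id_comp _).trans (Category.comp_id _).symm
  | .negSucc 0 => by
    show 0 ≫ 0 = K.d (-1) 0 ≫ lowπ K hK
    rw [comp_zero]
    ext1
    exact (cokernel.condition _).symm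
  | .negSucc (i + 1) => zero_comp.trans comp_zero.symm

noncomputable def lowHom : K ⟶ lowCx K hK where
  f := lowf K hK
  comm' i j (h : i + 1 = j) := by
    subst h
    rw [show (lowCx K hK).d i (i + 1) = lowd K hK i from CochainComplex.of_d _ _ i]
    exact lowf_comm K hK i

theorem exists_low : ∃ (L : CochainComplex (FilD.FilF A) ℤ) (φ : K ⟶ L),
    L.IsStrictlyGE 0 ∧ FilD.IsFilteredQuasiIso φ := by
  refine ⟨lowCx K hK, lowHom K hK, ?_, fun p => ?_⟩
  · rw [CochainComplex.isStrictlyGE_iff]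
    rintro (k | k) h
    · exact absurd h (by simp)
    · exact isZero_zero _
  have hπ : ∀ x, Epi ((lowπ K hK).hom.app x) := fun x =>
    inferInstanceAs (Epi (((evaluation ℤᵒᵖ A).obj x).map (cokernel.π (K.d (-1) 0).hom)))
  have : ∀ n, Epi (((FilD.grCx p).map (lowHom K hK)).f n) := by
    intro n
    rcases n with (_ | k) | i
    · exact gr_epi_of_levels (lowπ K hK) hπ p
    · show Epi ((FilD.grF A p).map (𝟙 _))
      infer_instance
    · exact ⟨fun _ _ _ => ((FilD.grF A p).map_isZero (isZero_zero (FilD.FilF A))).eq_of_src _ _⟩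
  apply quasiIso_of_epi
  intro i n j hi hj B x hx hxd
  rcases n with (_ | k) | m
  · obtain rfl : i = -1 := by simp at hi; lia
    have hs : FilD.IsStrict (lowπ K hK) := by
      rw [isStrict_iff]
      intro q C y x e
      have := hπ (op (q + 1))
      exact surjective_up_to_refinements_of_epi ((lowπ K hK).hom.app (op (q + 1))) y
    have w : K.d (-1) 0 ≫ lowπ K hK = 0 := by ext1; exact cokernel.condition _
    have hex := gr_exact_of_levels (ShortComplex.mk _ _ w) (fun q =>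
      (ShortComplex.exact_of_g_is_cokernel (ShortComplex.mk _ _ (cokernel.condition (K.d (-1) 0).hom))
        (cokernelIsCokernel _)).map ((evaluation ℤᵒᵖ A).obj (op q))) hs p
    obtain ⟨B', π, hπ', y, hy⟩ := (ShortComplex.exact_iff_exact_up_to_refinements _).1 hex x hx
    refine ⟨B', π, hπ', y, hy, ?_⟩
    exact ((FilD.grF A p).map_isZero (isZero_zero (FilD.FilF A))).eq_of_tgt _ _
  · have : Mono (((FilD.grCx p).map (lowHom K hK)).f (Int.ofNat (k + 1))) := by
      show Mono ((FilD.grF A p).map (𝟙 _))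
      infer_instance
    obtain rfl : x = 0 := by rwa [← cancel_mono (((FilD.grCx p).map (lowHom K hK)).f _), zero_comp]
    exact ⟨B, 𝟙 B, inferInstance, 0, by simp, zero_comp⟩
  · obtain ⟨B', π, hπ', y, hy⟩ := (ShortComplex.exact_iff_exact_up_to_refinements _).1
      ((HomologicalComplex.exactAt_iff' _ i _ j ((ComplexShape.up ℤ).prev_eq' hi)
        ((ComplexShape.up ℤ).next_eq' hj)).1 (hK p _ (Int.negSucc_lt_zero m))) x hxd
    refine ⟨B', π, hπ', y, hy, ?_⟩
    obtain ⟨l, rfl⟩ : ∃ l, i = Int.negSucc l := ⟨m + 1, by lia⟩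
    exact ((FilD.grF A p).map_isZero (isZero_zero (FilD.FilF A))).eq_of_tgt _ _

end Low

section High

variable (K : CochainComplex (FilD.FilF A) ℤ) (hK : ∀ p n : ℤ, 0 < n → ((FilD.grCx p).obj K).ExactAt n)

include hK

lemma strict_d_zero : FilD.IsStrict (K.d (Int.ofNat 0) (Int.ofNat 1)) := by
  refine strict_of_exact_levels (K.sc' (Int.ofNat 0) (Int.ofNat 1) (Int.ofNat 2)) fun q =>
    exact_levels_of_gr_exact _ (fun p => ?_) q
  exact (HomologicalComplex.exactAt_iff' _ (Int.ofNat 0) (Int.ofNat 1) (Int.ofNat 2)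
    ((ComplexShape.up ℤ).prev_eq' rfl) ((ComplexShape.up ℤ).next_eq' rfl)).1
    (hK p (Int.ofNat 1) (by simp))

omit hK in
noncomputable def highZ : FilD.FilF A :=
  ⟨kernel (K.d (Int.ofNat 0) (Int.ofNat 1)).hom, isFinFil_kernel _⟩

omit hK in
noncomputable def highι : highZ K ⟶ K.X (Int.ofNat 0) :=
  ObjectProperty.homMk (kernel.ι (K.d (Int.ofNat 0) (Int.ofNat 1)).hom)

omit hK in
noncomputable def highLift : K.X (Int.negSucc 0) ⟶ highZ K :=
  ObjectProperty.homMk (kernel.lift _ (K.d (Int.negSucc 0) (Int.ofNat 0)).hom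
    (congrArg (fun ψ => ψ.hom) (K.d_comp_d (Int.negSucc 0) (Int.ofNat 0) (Int.ofNat 1))))

omit hK in
lemma highLift_ι : highLift K ≫ highι K = K.d (Int.negSucc 0) (Int.ofNat 0) := by
  ext1
  exact kernel.lift_ι _ _ _

omit hK in
lemma mono_highι : Mono (highι K) := ⟨fun φ ψ e => by
  ext1
  exact (cancel_mono (kernel.ι (K.d (Int.ofNat 0) (Int.ofNat 1)).hom)).1
    (congrArg (fun η => η.hom) e)⟩

omit hK in
noncomputable def highX : ℤ → FilD.FilF A
  | .ofNat 0 => highZ K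
  | .ofNat (_ + 1) => 0
  | .negSucc m => K.X (Int.negSucc m)

omit hK in
noncomputable def highd : ∀ n, highX K n ⟶ highX K (n + 1)
  | .ofNat _ => 0
  | .negSucc 0 => highLift K
  | .negSucc (m + 1) => K.d (Int.negSucc (m + 1)) (Int.negSucc m)

omit hK in
lemma highd_sq : ∀ n, highd K n ≫ highd K (n + 1) = 0
  | .ofNat _ => zero_comp
  | .negSucc 0 => comp_zero
  | .negSucc 1 => by
    have := mono_highι K
    show K.d (Int.negSucc 1) (Int.negSucc 0) ≫ highLift K = 0
    rw [← cancel_mono (highι K), zero_comp, Category.assoc, highLift_ι, K.d_comp_d]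
  | .negSucc (m + 2) => K.d_comp_d _ _ _

omit hK in
noncomputable def highCx : CochainComplex (FilD.FilF A) ℤ :=
  CochainComplex.of (highX K) (highd K) (highd_sq K)

omit hK in
noncomputable def highf : ∀ n, highX K n ⟶ K.X n
  | .ofNat 0 => highι K
  | .ofNat (_ + 1) => 0
  | .negSucc _ => 𝟙 _

omit hK in
lemma highf_comm : ∀ n, highf K n ≫ K.d n (n + 1) = highd K n ≫ highf K (n + 1)
  | .ofNat 0 => by
    show highι K ≫ K.d (Int.ofNat 0) (Int.ofNat 1) = 0 ≫ 0
    rw [comp_zero]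
    ext1
    exact kernel.condition _
  | .ofNat (_ + 1) => zero_comp.trans zero_comp.symm
  | .negSucc 0 => (Category.id_comp _).trans (highLift_ι K).symm
  | .negSucc (m + 1) => (Category.id_comp _).trans (Category.comp_id _).symm

omit hK in
noncomputable def highHom : highCx K ⟶ K where
  f := highf K
  comm' i j (h : i + 1 = j) := by
    subst h
    rw [show (highCx K).d i (i + 1) = highd K i from CochainComplex.of_d _ _ i]
    exact highf_comm K i

theorem exists_high : ∃ (M : CochainComplex (FilD.FilF A) ℤ) (φ : M ⟶ K),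
    M.IsStrictlyLE 0 ∧ FilD.IsFilteredQuasiIso φ := by
  refine ⟨highCx K, highHom K, ?_, fun p => ?_⟩
  · rw [CochainComplex.isStrictlyLE_iff]
    rintro ((_ | k) | k) h
    · exact absurd h (by simp)
    · exact isZero_zero _
    · exact absurd h (by simp)
  have hι : ∀ x, Mono ((highι K).hom.app x) := fun x =>
    inferInstanceAs (Mono (((evaluation ℤᵒᵖ A).obj x).map (kernel.ι (K.d _ _).hom)))
  have : ∀ n, Mono (((FilD.grCx p).map (highHom K)).f n) := by
    intro n
    rcases n with (_ | k) | i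
    · exact gr_mono_of_levels (highι K) hι (strict_kernel_ι _) p
    · exact ⟨fun _ _ _ => ((FilD.grF A p).map_isZero (isZero_zero (FilD.FilF A))).eq_of_tgt _ _⟩
    · show Mono ((FilD.grF A p).map (𝟙 _))
      infer_instance
  apply quasiIso_of_mono
  intro i n j hi hj B y x hyx
  have hid : ∀ m, ((FilD.grCx p).map (highHom K)).f (Int.negSucc m) = 𝟙 _ :=
    fun m => (FilD.grF A p).map_id _
  rcases n with (_ | k) | m
  · obtain rfl : j = Int.ofNat 1 := by simp at hj ⊢; lia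
    have hy : y ≫ ((FilD.grCx p).obj K).d (Int.ofNat 0) (Int.ofNat 1) = 0 := by
      rw [hyx]
      exact (congrArg (· ≫ _) (((FilD.grF A p).map_isZero
        (isZero_zero (FilD.FilF A))).eq_of_tgt x 0)).trans zero_comp
    obtain ⟨B', π, hπ, z, hz⟩ := (ShortComplex.exact_iff_exact_up_to_refinements _).1
      (gr_kernel_exact_of_strict _ (strict_d_zero K hK) p) y hy
    exact ⟨B', π, hπ, z, 0, by rw [zero_comp, add_zero]; exact hz⟩
  · obtain ⟨l, rfl⟩ : ∃ l : ℕ, j = Int.ofNat (l + 1) := ⟨k + 1, by simp at hj ⊢; lia⟩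
    have hy : y ≫ ((FilD.grCx p).obj K).d (Int.ofNat (k + 1)) (Int.ofNat (l + 1)) = 0 := by
      rw [hyx]
      exact (congrArg (· ≫ _) (((FilD.grF A p).map_isZero
        (isZero_zero (FilD.FilF A))).eq_of_tgt x 0)).trans zero_comp
    obtain ⟨B', π, hπ, z, hz⟩ := (ShortComplex.exact_iff_exact_up_to_refinements _).1
      ((HomologicalComplex.exactAt_iff' _ i _ _ ((ComplexShape.up ℤ).prev_eq' hi)
        ((ComplexShape.up ℤ).next_eq' hj)).1 (hK p _ (by simp))) y hy
    exact ⟨B', π, hπ, 0, z, by rw [zero_comp, zero_add]; exact hz⟩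
  · refine ⟨B, 𝟙 B, inferInstance, y, 0, ?_⟩
    rw [Category.id_comp, zero_comp, add_zero, hid]
    exact (Category.comp_id _).symm

end High

lemma exactAt_shift {K : CochainComplex (FilD.FilF A) ℤ} (a p n : ℤ)
    (h : IsZero (((FilD.grCx p).obj K).homology (a + n))) :
    ((FilD.grCx p).obj (K⟦a⟧)).ExactAt n := by
  rw [HomologicalComplex.exactAt_iff_isZero_homology]
  refine IsZero.of_iso ?_ ((HomologicalComplex.homologyFunctor A (.up ℤ) n).mapIso
    (((FilD.grF A p).mapCochainComplexShiftIso a).app K))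
  exact h.of_iso (((HomologicalComplex.homologyFunctor A (.up ℤ) 0).shiftIso a n (a + n) rfl).app
    ((FilD.grCx p).obj K))

theorem exists_low' (K : CochainComplex (FilD.FilF A) ℤ) (a : ℤ)
    (hK : ∀ (p n : ℤ), n < a → IsZero (((FilD.grCx p).obj K).homology n)) :
    ∃ (L : CochainComplex (FilD.FilF A) ℤ) (φ : K ⟶ L), L.IsStrictlyGE a ∧
      FilD.IsFilteredQuasiIso φ := by
  obtain ⟨L, φ, hL, hφ⟩ := exists_low (K⟦a⟧) fun p n hn => exactAt_shift a p n (hK p _ (by lia))
  let e : K ≅ (K⟦a⟧)⟦-a⟧ :=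
    ((shiftFunctorCompIsoId (CochainComplex (FilD.FilF A) ℤ) a (-a) (by lia)).app K).symm
  refine ⟨L⟦-a⟧, e.hom ≫ φ⟦-a⟧', L.isStrictlyGE_shift 0 (-a) a (by lia), fun p => ?_⟩
  have := isFilteredQuasiIso_shift φ (-a) hφ p
  rw [Functor.map_comp]
  infer_instance

theorem exists_high' (K : CochainComplex (FilD.FilF A) ℤ) (b : ℤ)
    (hK : ∀ (p n : ℤ), b < n → IsZero (((FilD.grCx p).obj K).homology n)) :
    ∃ (M : CochainComplex (FilD.FilF A) ℤ) (φ : M ⟶ K), M.IsStrictlyLE b ∧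
      FilD.IsFilteredQuasiIso φ := by
  obtain ⟨M, φ, hM, hφ⟩ := exists_high (K⟦b⟧) fun p n hn => exactAt_shift b p n (hK p _ (by lia))
  let e : (K⟦b⟧)⟦-b⟧ ≅ K :=
    (shiftFunctorCompIsoId (CochainComplex (FilD.FilF A) ℤ) b (-b) (by lia)).app K
  refine ⟨M⟦-b⟧, φ⟦-b⟧' ≫ e.hom, M.isStrictlyLE_shift 0 (-b) b (by lia), fun p => ?_⟩
  have := isFilteredQuasiIso_shift φ (-b) hφ p
  rw [Functor.map_comp]
  infer_instance

end Groth.Agent.FilLib
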